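import Groth.Agent.L20.ModPullback
import Groth.Agent.L29.DCoh.RelBCAlg
import Groth.Agent.L17.ClosedPush
import Groth.Prelude.Def_FlatMod2

/-!
Modules flat over the base: sections over affine opens, base change; naturality of `μ`.
-/

set_option autoImplicit false
set_option linter.style.haveILetI false
set_option backward.isDefEq.respectTransparency false
set_option backward.isDefEq.respectTransparency.types false

universe u

open CategoryTheory CategoryTheory.Limits MonoidalCategory AlgebraicGeometry Opposite TopologicalSpace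
open scoped TensorProduct

noncomputable section

namespace Groth.L17.FlatPair

section Stalk

open Groth.L29.DC.RelBC (flat_tensor_of_pushout)

variable {X S X' S' : Scheme.{u}} {f : X ⟶ S} {f' : X' ⟶ S'} {g' : X' ⟶ X} {g : S' ⟶ S}

theorem stalk_bc (hc : IsPullback g' f' f g) (x' : X') :
    (∀ M : X.Modules, FlatMod.IsFlatOver f M → FlatMod.IsFlatOverAt f' ((Scheme.Modules.pullback g').obj M) x') := by
  obtain ⟨W, V, W', U, eV, eW, eU, eU', hW, hV, hW', hU, hxU, hpo⟩ := Groth.L20.ModStalk.exists_affine_square hc x'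
  algebraize [(f.appLE W V eV).hom, (g.appLE W W' eW).hom, (g'.appLE V U eU).hom, (f'.appLE W' U eU').hom,
    ((g'.appLE V U eU).hom.comp (f.appLE W V eV).hom)]
  haveI : IsScalarTower Γ(S, W) Γ(S', W') Γ(X', U) := IsScalarTower.of_algebraMap_eq' (congrArg CommRingCat.Hom.hom hpo.w)
  haveI : Algebra.IsPushout Γ(S, W) Γ(X, V) Γ(S', W') Γ(X', U) := CommRingCat.isPushout_iff_isPushout.mp hpo
  haveI : Algebra.IsPushout Γ(S, W) Γ(S', W') Γ(X, V) Γ(X', U) := Algebra.IsPushout.symm ‹_›
  have hxV : g' x' ∈ V := eU hxU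
  letI := X.presheaf.algebra_section_stalk ⟨g' x', hxV⟩
  haveI hlocV := hV.isLocalization_stalk ⟨g' x', hxV⟩
  letI := X'.presheaf.algebra_section_stalk ⟨x', hxU⟩
  haveI := hU.isLocalization_stalk ⟨x', hxU⟩
  haveI : Module.Flat Γ(X', U) (X'.presheaf.stalk x') :=
    IsLocalization.flat _ (hU.primeIdealOf ⟨x', hxU⟩).asIdeal.primeCompl
  letI : Algebra (X.presheaf.stalk (g' x')) (X'.presheaf.stalk x') := (Groth.L00.PullStalk.φ g' x').toAlgebra
  letI : Algebra Γ(X, V) (X'.presheaf.stalk x') :=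
    ((algebraMap Γ(X', U) (X'.presheaf.stalk x')).comp (algebraMap Γ(X, V) Γ(X', U))).toAlgebra
  haveI : IsScalarTower Γ(X, V) Γ(X', U) (X'.presheaf.stalk x') := IsScalarTower.of_algebraMap_eq fun _ => rfl
  haveI : IsScalarTower Γ(X, V) (X.presheaf.stalk (g' x')) (X'.presheaf.stalk x') :=
    IsScalarTower.of_algebraMap_eq fun r => (Groth.L20.ModStalk.stalkMap_germ eU hxU (eU hxU) r).symm
  let χ : Γ(S, W) →+* X.presheaf.stalk (g' x') :=
    (X.presheaf.germ V (g' x') hxV).hom.comp (f.appLE W V eV).hom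
  let Sm := (hV.primeIdealOf ⟨g' x', hxV⟩).asIdeal.primeCompl
  intro M hM
  let N := (Groth.L00.Stk.F X (g' x')).obj M
  letI := Module.compHom N χ
  letI := Module.compHom N (algebraMap Γ(X, V) (X.presheaf.stalk (g' x')))
  haveI : IsScalarTower Γ(X, V) (X.presheaf.stalk (g' x')) N := IsScalarTower.of_algebraMap_smul fun _ _ => rfl
  haveI : IsScalarTower Γ(S, W) Γ(X, V) N := IsScalarTower.of_algebraMap_smul fun _ _ => rfl
  haveI : Module.Flat Γ(S, W) N :=
    (Groth.L20.ModStalk.isFlatOverAt_iff_sections f M hW eV hxV).1 (hM (g' x'))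
  letI : Algebra Γ(S', W') (X'.presheaf.stalk x') :=
    ((algebraMap Γ(X', U) (X'.presheaf.stalk x')).comp (algebraMap Γ(S', W') Γ(X', U))).toAlgebra
  haveI : IsScalarTower Γ(S', W') Γ(X', U) (X'.presheaf.stalk x') := IsScalarTower.of_algebraMap_eq fun _ => rfl
  rw [Groth.L20.ModStalk.isFlatOverAt_iff_sections f' _ hW' eU' hxU]
  have h := flat_tensor_of_pushout Γ(S, W) Γ(S', W') Γ(X, V) Γ(X', U) Sm (X.presheaf.stalk (g' x'))
    (X'.presheaf.stalk x') (M := N)
  let e : ((Scheme.Modules.pullback g').obj M).presheaf.stalk x' ≃ₗ[X'.presheaf.stalk x']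
      X'.presheaf.stalk x' ⊗[X.presheaf.stalk (g' x')] N :=
    ((Groth.L00.PullStalk.stalkIso g' x').app M).toLinearEquiv
  letI : Module Γ(S', W') (((Scheme.Modules.pullback g').obj M).presheaf.stalk x') :=
    Module.compHom _ ((X'.presheaf.germ U x' hxU).hom.comp (f'.appLE W' U eU').hom)
  exact Module.Flat.of_linearEquiv (AddEquiv.toLinearEquiv e.toAddEquiv fun a z =>
    (e.map_smul (algebraMap Γ(S', W') (X'.presheaf.stalk x') a) z).trans (algebraMap_smul _ a _))

theorem isFlatOver_pullback (hc : IsPullback g' f' f g) {M : X.Modules} (h : FlatMod.IsFlatOver f M) :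
  FlatMod.IsFlatOver f' ((Scheme.Modules.pullback g').obj M) := fun x' => stalk_bc hc x' M h

end Stalk

section Sections

variable {X Y : Scheme.{u}} (f : X ⟶ Y) {V : Y.Opens}

/-- Flatness over the base, on sections over affine pieces. -/
theorem flat_appLE (F : X.Modules) [Coh.IsQCoh F] (hfl : FlatMod.IsFlatOver f F) {W : X.Opens} (hW : IsAffineOpen W)
    (hWV : W ≤ f ⁻¹ᵁ V) (hV : IsAffineOpen V) :
    letI : Module Γ(Y, V) Γ(F, W) := Module.compHom Γ(F, W) (f.appLE V W hWV).hom
    Module.Flat Γ(Y, V) Γ(F, W) := by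
  letI : Algebra Γ(Y, V) Γ(X, W) := (f.appLE V W hWV).hom.toAlgebra
  letI : Module Γ(Y, V) Γ(F, W) := Module.compHom Γ(F, W) (f.appLE V W hWV).hom
  haveI : IsScalarTower Γ(Y, V) Γ(X, W) Γ(F, W) := IsScalarTower.of_algebraMap_smul fun _ _ => rfl
  refine Module.flat_of_isLocalized_maximal (R := Γ(Y, V)) Γ(X, W) Γ(F, W)
    (fun P _ => LocalizedModule P.primeCompl Γ(F, W))
    (fun P _ => LocalizedModule.mkLinearMap P.primeCompl Γ(F, W)) fun P hP => ?_
  obtain ⟨x, hx, e⟩ : ∃ (x : X) (hx : x ∈ W), (hW.primeIdealOf ⟨x, hx⟩).asIdeal = P := by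
    have hm : hW.fromSpec ⟨P, hP.isPrime⟩ ∈ W := by
      have : hW.fromSpec ⟨P, hP.isPrime⟩ ∈ Set.range hW.fromSpec := ⟨_, rfl⟩
      rwa [hW.range_fromSpec] at this
    exact ⟨_, hm, congrArg (fun p : Spec Γ(X, W) => p.asIdeal)
      (hW.fromSpec.isOpenEmbedding.injective (a₁ := hW.primeIdealOf _) (hW.fromSpec_primeIdealOf _))⟩
  subst e
  exact (Groth.L20.ModStalk.isFlatOverAt_iff f F hV hW hWV hx).1 (hfl _)

end Sections

section Mu

open Groth.L00.Tensor Groth.L17.ClosedPush

variable {X Y : Scheme.{u}} (f : X ⟶ Y)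

theorem μ_natural {M M' N N' : X.Modules} (g : M ⟶ M') (h : N ⟶ N') :
    tensorMap ((Scheme.Modules.pushforward f).map g) ((Scheme.Modules.pushforward f).map h) ≫ μ f M' N' =
      μ f M N ≫ (Scheme.Modules.pushforward f).map (tensorMap g h) := by
  refine ((shAdj Y).homEquiv
    (pre ((Scheme.Modules.pushforward f).obj M) ⊗ pre ((Scheme.Modules.pushforward f).obj N)) _).injective ?_
  refine ((shAdj Y).homEquiv_unit ..).trans (Eq.trans ?_ ((shAdj Y).homEquiv_unit ..).symm)
  refine PresheafOfModules.hom_ext fun V => ModuleCat.MonoidalCategory.tensor_ext fun m a => ?_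
  exact ((congrArg ((μ f M' N').app V.unop) (tensorMap_unit _ _ V.unop m a)).trans
    (μ_unit f M' N' V.unop _ _)).trans (((congrArg (((Scheme.Modules.pushforward f).map (tensorMap g h)).app V.unop)
      (μ_unit f M N V.unop m a)).trans (tensorMap_unit g h (f ⁻¹ᵁ V.unop) m a)).symm)

end Mu

end Groth.L17.FlatPair
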