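import Groth.Agent.L17.FlatPair.Pair
import Groth.Agent.L17.FlatBase.PullTheta
import Groth.Agent.L16.CohLinear
import Mathlib.AlgebraicGeometry.Modules.Tilde

/-!
Base change of cohomology with flat coefficient module.
-/

set_option autoImplicit false
set_option linter.style.haveILetI false
set_option linter.unusedSectionVars false
set_option backward.isDefEq.respectTransparency false
set_option backward.isDefEq.respectTransparency.types false

universe u

open CategoryTheory CategoryTheory.Limits AlgebraicGeometry TopologicalSpace Opposite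
open scoped TensorProduct
noncomputable section

namespace Groth.L17.FlatPair

open Groth.L18.Frame (rs ro pull rs_rs rs_self rs_smul ro_ro pull_smul)
open Groth.L18.GenLoc (tens tens_rs tens_smul_left tens_smul_right)
open Groth.L17.DegZero

/-- Tensor products along semilinear bijections. -/
theorem exists_tensor_congr {R R' M M' N N' : Type*} [CommRing R] [CommRing R'] [AddCommGroup M] [AddCommGroup M']
    [AddCommGroup N] [AddCommGroup N'] [Module R M] [Module R' M'] [Module R N] [Module R' N'] (σ : R ≃+* R')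
    (eM : M ≃+ M') (eN : N ≃+ N') (hM : ∀ r m, eM (r • m) = σ r • eM m) (hN : ∀ r n, eN (r • n) = σ r • eN n) :
    ∃ e : M ⊗[R] N ≃+ M' ⊗[R'] N', ∀ m n, e (m ⊗ₜ n) = eM m ⊗ₜ eN n := by
  let φ : M ⊗[R] N →+ M' ⊗[R'] N' := TensorProduct.liftAddHom
    (AddMonoidHom.mk' (fun m => AddMonoidHom.mk' (fun n => eM m ⊗ₜ[R'] eN n)
        fun n n' => by rw [map_add, TensorProduct.tmul_add])
      fun m m' => AddMonoidHom.ext fun n => by
        show eM (m + m') ⊗ₜ[R'] eN n = eM m ⊗ₜ eN n + eM m' ⊗ₜ eN n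
        rw [map_add, TensorProduct.add_tmul])
    fun r m n => by
      show eM (r • m) ⊗ₜ[R'] eN n = eM m ⊗ₜ eN (r • n)
      rw [hM, hN, TensorProduct.smul_tmul]
  let ψ : M' ⊗[R'] N' →+ M ⊗[R] N := TensorProduct.liftAddHom
    (AddMonoidHom.mk' (fun m => AddMonoidHom.mk' (fun n => eM.symm m ⊗ₜ[R] eN.symm n)
        fun n n' => by rw [map_add, TensorProduct.tmul_add])
      fun m m' => AddMonoidHom.ext fun n => by
        show eM.symm (m + m') ⊗ₜ[R] eN.symm n = eM.symm m ⊗ₜ eN.symm n + eM.symm m' ⊗ₜ eN.symm n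
        rw [map_add, TensorProduct.add_tmul])
    fun r m n => by
      show eM.symm (r • m) ⊗ₜ[R] eN.symm n = eM.symm m ⊗ₜ eN.symm (r • n)
      have h1 : eM.symm (r • m) = σ.symm r • eM.symm m := eM.injective (by
        rw [hM, AddEquiv.apply_symm_apply, AddEquiv.apply_symm_apply, RingEquiv.apply_symm_apply])
      have h2 : eN.symm (r • n) = σ.symm r • eN.symm n := eN.injective (by
        rw [hN, AddEquiv.apply_symm_apply, AddEquiv.apply_symm_apply, RingEquiv.apply_symm_apply])
      rw [h1, h2, TensorProduct.smul_tmul]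
  have h1 : ψ.comp φ = AddMonoidHom.id _ := AddMonoidHom.ext fun z => by
    induction z using TensorProduct.induction_on with
    | zero => simp
    | add x y hx hy => simp only [map_add, hx, hy]
    | tmul m n =>
      show eM.symm (eM m) ⊗ₜ[R] eN.symm (eN n) = _
      rw [eM.symm_apply_apply, eN.symm_apply_apply]
      rfl
  have h2 : φ.comp ψ = AddMonoidHom.id _ := AddMonoidHom.ext fun z => by
    induction z using TensorProduct.induction_on with
    | zero => simp
    | add x y hx hy => simp only [map_add, hx, hy]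
    | tmul m n =>
      show eM (eM.symm m) ⊗ₜ[R'] eN (eN.symm n) = _
      rw [eM.apply_symm_apply, eN.apply_symm_apply]
      rfl
  exact ⟨φ.toAddEquiv ψ h1 h2, fun _ _ => rfl⟩

/-- Tensoring with a global section. -/
def mulGlobal {Z : Scheme.{u}} (P Q : Z.Modules) (σ : Γ(P, ⊤)) : Q ⟶ CohB1.tensorMod P Q :=
  ⟨PresheafOfModules.homMk
    { app := fun U => AddCommGrpCat.ofHom
        (AddMonoidHom.mk' (fun x : Γ(Q, U.unop) => tens P Q U.unop (rs P le_top σ) x)
          fun x y => tens_add_right P Q U.unop _ x y)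
      naturality := fun U V i => by
        ext x
        show tens P Q V.unop (rs P le_top σ) (rs Q i.unop.le (show Γ(Q, U.unop) from x)) =
          rs (CohB1.tensorMod P Q) i.unop.le (tens P Q U.unop (rs P le_top σ) (show Γ(Q, U.unop) from x))
        rw [tens_rs, rs_rs] }
    (fun U r (x : Γ(Q, U.unop)) => tens_smul_right (show Γ(Z, U.unop) from r) (rs P le_top σ) x)⟩

theorem mulGlobal_app {Z : Scheme.{u}} (P Q : Z.Modules) (σ : Γ(P, ⊤)) (U : Z.Opens) (x : Γ(Q, U)) :
    (mulGlobal P Q σ).app U x = tens P Q U (rs P le_top σ) x := rfl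

variable {A B : Type u} [CommRing A] [CommRing B] [Algebra A B] {X X' : Scheme.{u}}
  (f : X ⟶ Spec (CommRingCat.of A)) (f' : X' ⟶ Spec (CommRingCat.of B)) (g : X' ⟶ X)
  (sq : IsPullback g f' f (Spec.map (CommRingCat.ofHom (algebraMap A B)))) (F : X.Modules)
  (N : Type u) [AddCommGroup N] [Module B N]

/-- The coefficient sheaf. -/
abbrev coef : X'.Modules := (Scheme.Modules.pullback f').obj (tilde (R := CommRingCat.of B) (ModuleCat.of B N))

/-- The global sections of the coefficient sheaf from elements. -/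
def sg : N →+ Γ(coef f' N, ⊤) :=
  AddMonoidHom.mk' (fun n => pull f' (tilde (R := CommRingCat.of B) (ModuleCat.of B N)) ⊤
      (tilde.toOpen (R := CommRingCat.of B) (ModuleCat.of B N) ⊤ n))
    fun n n' => by
      rw [map_add]
      exact map_add (((Scheme.Modules.pullbackPushforwardAdjunction f').unit.app _).app ⊤).hom _ _

theorem sg_smul (b : B) (n : N) :
    sg f' N (b • n) = (show Γ(X', ⊤) from Coh.toGlobal f' b) • sg f' N n := by
  refine (congrArg (pull f' _ ⊤) ((map_smul (tilde.toOpen (R := CommRingCat.of B) (ModuleCat.of B N) ⊤).hom b n))).trans ?_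
  exact pull_smul f' _ _ _

/-- The family of comparison maps. -/
def famT : N →+ (Coh.toAb F ⟶ (SheafTheta.pushAb (X := X.toTopCat) (X' := X'.toTopCat) g.base).obj
    (Coh.toAb (CohB1.tensorMod (coef f' N) ((Scheme.Modules.pullback g).obj F)))) :=
  AddMonoidHom.mk' (fun n => Groth.L16.CohLinear.tm ((Scheme.Modules.pullbackPushforwardAdjunction g).unit.app F) ≫
      (SheafTheta.pushAb (X := X.toTopCat) (X' := X'.toTopCat) g.base).map
        (Groth.L16.CohLinear.tm (mulGlobal (coef f' N) ((Scheme.Modules.pullback g).obj F) (sg f' N n))))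
    fun n n' => by
      ext V s
      show tens _ _ (g ⁻¹ᵁ V.unop) (rs _ le_top (sg f' N (n + n'))) (pull g F V.unop s) = _
      rw [map_add, show rs (coef f' N) (le_top : g ⁻¹ᵁ V.unop ≤ ⊤) (sg f' N n + sg f' N n') =
        rs _ le_top (sg f' N n) + rs _ le_top (sg f' N n') from map_add _ _ _, tens_add_left]
      rfl

theorem famT_app (n : N) (V : X.Opens) (s : Γ(F, V)) :
    (famT f' g F N n).hom.app (op V) s =
      tens (coef f' N) ((Scheme.Modules.pullback g).obj F) (g ⁻¹ᵁ V) (rs _ le_top (sg f' N n)) (pull g F V s) := rfl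

theorem famT_smul' (b : B) (n : N) :
    famT f' g F N (b • n) = famT f' g F N n ≫ (SheafTheta.pushAb (X := X.toTopCat) (X' := X'.toTopCat) g.base).map
      (Coh.smulAb (CohB1.tensorMod (coef f' N) ((Scheme.Modules.pullback g).obj F)) (Coh.toGlobal f' b)) := by
  ext V s
  show (famT f' g F N (b • n)).hom.app V s =
    (Coh.smulAb (CohB1.tensorMod (coef f' N) ((Scheme.Modules.pullback g).obj F)) (Coh.toGlobal f' b)).hom.app
      (op (g ⁻¹ᵁ V.unop)) ((famT f' g F N n).hom.app V s)
  refine Eq.trans ?_ (Coh.smulAb_app _ (Coh.toGlobal f' b) (op (g ⁻¹ᵁ V.unop)) _).symm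
  refine (famT_app f' g F N (b • n) V.unop s).trans (Eq.trans ?_ (congrArg _ (famT_app f' g F N n V.unop s)).symm)
  rw [sg_smul, rs_smul, tens_smul_left]
  rfl

variable [Module A N] [IsScalarTower A B N]

include sq in
theorem famT_smul (a : A) (n : N) :
    famT f' g F N (a • n) = Coh.smulAb F (Coh.toGlobal f a) ≫ famT f' g F N n := by
  ext V s
  show (famT f' g F N (a • n)).hom.app V s =
    (famT f' g F N n).hom.app V ((Coh.smulAb F (Coh.toGlobal f a)).hom.app V s)
  refine Eq.trans ?_ (congrArg ((famT f' g F N n).hom.app V) (Coh.smulAb_app F (Coh.toGlobal f a) V s)).symm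
  refine (famT_app f' g F N (a • n) V.unop s).trans (Eq.trans ?_ (famT_app f' g F N n V.unop _).symm)
  have hc : g.appTop (Coh.toGlobal f a) = Coh.toGlobal f' (algebraMap A B a) :=
    BC.compat_of_isPullback f f' g sq a
  rw [← IsScalarTower.algebraMap_smul B a n, sg_smul, rs_smul, tens_smul_left, ← hc]
  have hp : pull g F V.unop ((show Γ(X, V.unop) from Coh.resTop X V (Coh.toGlobal f a)) • (show Γ(F, V.unop) from s)) =
      g.app V.unop (show Γ(X, V.unop) from Coh.resTop X V (Coh.toGlobal f a)) • pull g F V.unop (show Γ(F, V.unop) from s) :=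
    pull_smul g F _ _
  refine Eq.trans ?_ (congrArg (tens _ _ (g ⁻¹ᵁ V.unop) _) hp).symm
  rw [tens_smul_right]
  refine congrArg (fun c : Γ(X', g ⁻¹ᵁ V.unop) => c • _) ?_
  exact (ConcreteCategory.congr_hom (g.naturality (homOfLE (le_top : V.unop ≤ ⊤)).op) (Coh.toGlobal f a)).symm

include sq in
theorem bijOnT [Coh.IsQCoh F] (W : X.Opens) (hW : IsAffineOpen W) :
    SchemeTheta.BijOn g (Coh.toGlobal f) (famT f' g F N) W := by
  let p := Spec.map (CommRingCat.ofHom (algebraMap A B))
  let G := tilde (R := CommRingCat.of B) (ModuleCat.of B N)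
  let R := Γ(Spec (CommRingCat.of A), ⊤)
  let σ : A ≃+* R := (Scheme.ΓSpecIso (CommRingCat.of A)).symm.commRingCatIsoToRingEquiv
  have eW : W ≤ f ⁻¹ᵁ ⊤ := le_top
  have eV : (⊤ : (Spec (CommRingCat.of B)).Opens) ≤ p ⁻¹ᵁ ⊤ := le_top
  haveI : IsIso (tilde.toOpen (R := CommRingCat.of B) (ModuleCat.of B N) ⊤) :=
    tilde.isIso_toOpen_top (R := CommRingCat.of B) (M := ModuleCat.of B N)
  let eM : N ≃+ SecA p G eV := AddEquiv.ofBijective
    (AddMonoidHom.mk' (fun n => (show SecA p G eV from
      tilde.toOpen (R := CommRingCat.of B) (ModuleCat.of B N) ⊤ n))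
      fun a b => map_add (tilde.toOpen (R := CommRingCat.of B) (ModuleCat.of B N) ⊤).hom a b)
    (ConcreteCategory.bijective_of_isIso (tilde.toOpen (R := CommRingCat.of B) (ModuleCat.of B N) ⊤))
  let eN : BC.Sec (Coh.toGlobal f) F W ≃+ SecA f F eW := AddEquiv.refl _
  have hM : ∀ (a : A) (n : N), eM (a • n) = σ a • eM n := fun a n => by
    rw [← IsScalarTower.algebraMap_smul B a n]
    refine (map_smul (tilde.toOpen (R := CommRingCat.of B) (ModuleCat.of B N) ⊤).hom (algebraMap A B a) n).trans ?_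
    refine congrArg (fun c : Γ(Spec (CommRingCat.of B), ⊤) => c • (show Γ(G, ⊤) from eM n)) ?_
    have h1 := ConcreteCategory.congr_hom
      (Scheme.ΓSpecIso_inv_naturality (CommRingCat.ofHom (algebraMap A B))) a
    refine h1.trans ?_
    show p.appTop _ = (p.appLE ⊤ ⊤ eV).hom _
    rw [show p.appLE ⊤ ⊤ eV = p.appTop from (Scheme.Hom.app_eq_appLE p).symm]
    rfl
  have hN : ∀ (a : A) (s : BC.Sec (Coh.toGlobal f) F W), eN (a • s) = σ a • eN s := fun a s => by
    refine congrArg (fun c : Γ(X, W) => c • (show Γ(F, W) from s)) ?_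
    exact ConcreteCategory.congr_hom (show f.appTop ≫ X.presheaf.map (homOfLE le_top).op = f.appLE ⊤ W eW from rfl)
      (σ a)
  obtain ⟨e, he⟩ := exists_tensor_congr σ eM eN hM hN
  have hle : g ⁻¹ᵁ W ≤ g ⁻¹ᵁ W ⊓ f' ⁻¹ᵁ ⊤ := le_inf le_rfl le_top
  have hγ := bijective_γ f p g f' sq.w G F eV sq (isAffineOpen_top _) (isAffineOpen_top _) hW eW
  let r : Γ((E g (coef f' N)).obj F, g ⁻¹ᵁ W ⊓ f' ⁻¹ᵁ ⊤) →+ Γ((E g (coef f' N)).obj F, g ⁻¹ᵁ W) :=
    ((E g (coef f' N)).obj F).presheaf.map (homOfLE hle).op |>.hom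
  have hr : Function.Bijective r := by
    refine ⟨fun a b hab => ?_, fun b => ⟨rs _ inf_le_left b, ?_⟩⟩
    · have := congrArg (rs ((E g (coef f' N)).obj F) (inf_le_left : g ⁻¹ᵁ W ⊓ f' ⁻¹ᵁ ⊤ ≤ g ⁻¹ᵁ W))
        (show rs _ hle a = rs _ hle b from hab)
      rwa [rs_rs, rs_rs, rs_self, rs_self] at this
    · show rs _ hle (rs _ inf_le_left b) = b
      rw [rs_rs, rs_self]
  refine ⟨(r.comp (γ f p g f' sq.w G F eV eW (g ⁻¹ᵁ W ⊓ f' ⁻¹ᵁ ⊤) inf_le_left inf_le_right)).comp
    e.toAddMonoidHom, hr.comp (hγ.comp e.bijective), fun n m => ?_⟩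
  show rs _ hle (γ f p g f' sq.w G F eV eW (g ⁻¹ᵁ W ⊓ f' ⁻¹ᵁ ⊤) inf_le_left inf_le_right (e (n ⊗ₜ m))) = _
  rw [he, γ_tmul]
  refine (tens_rs hle _ _).trans ?_
  rw [rs_rs, rs_rs, rs_self]
  exact (famT_app f' g F N n W m).symm

include sq in
/-- Base change of cohomology with flat coefficients. -/
theorem exists_equiv_coef [Module.Flat A N] [CompactSpace X] [QuasiSeparatedSpace X] [Coh.IsQCoh F] (q : ℕ) :
    letI : Module A (Coh.HH X F q) := Module.compHom _ (Coh.toGlobal f)
    letI : Module B (Coh.HH X' (CohB1.tensorMod ((Scheme.Modules.pullback g).obj F) (coef f' N)) q) :=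
      Module.compHom _ (Coh.toGlobal f')
    Nonempty (N ⊗[A] Coh.HH X F q ≃ₗ[B]
      Coh.HH X' (CohB1.tensorMod ((Scheme.Modules.pullback g).obj F) (coef f' N)) q) := by
  haveI := BC.isAffineHom_of_isPullback f f' g sq
  haveI : Coh.IsQCoh (CohB1.tensorMod (coef f' N) ((Scheme.Modules.pullback g).obj F)) :=
    haveI := Groth.L16.AffineBC.isQCoh_pullback g F
    haveI : Coh.IsQCoh (coef f' N) := Groth.L16.AffineBC.isQCoh_pullback f' _
    Groth.L00.Tensor.isQCoh_tensorMod _ _
  obtain ⟨e⟩ := SchemeTheta.exists_cohom_equiv g (Coh.toGlobal f) (Coh.toGlobal f') (famT f' g F N)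
    (famT_smul f f' g sq F N) (famT_smul' f' g F N) (bijOnT f f' g sq F N) q
  letI : Module A (Coh.HH X F q) := Module.compHom _ (Coh.toGlobal f)
  let c := Groth.L00.Tensor.tensorComm (coef f' N) ((Scheme.Modules.pullback g).obj F)
  let h₁ := Groth.L16.CohLinear.hmap c.hom q
  let h₂ := Groth.L16.CohLinear.hmap c.inv q
  letI : Module B (Coh.HH X' (CohB1.tensorMod (coef f' N) ((Scheme.Modules.pullback g).obj F)) q) :=
    Module.compHom _ (Coh.toGlobal f')
  letI : Module B (Coh.HH X' (CohB1.tensorMod ((Scheme.Modules.pullback g).obj F) (coef f' N)) q) :=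
    Module.compHom _ (Coh.toGlobal f')
  exact ⟨e.trans
    { toFun := h₁
      invFun := h₂
      left_inv := fun x => by
        show h₂ (h₁ x) = x
        rw [← Groth.L16.CohLinear.hmap_comp, c.hom_inv_id, Groth.L16.CohLinear.hmap_id]
      right_inv := fun x => by
        show h₁ (h₂ x) = x
        rw [← Groth.L16.CohLinear.hmap_comp, c.inv_hom_id, Groth.L16.CohLinear.hmap_id]
      map_add' := h₁.map_add
      map_smul' := fun b x => h₁.map_smul (Coh.toGlobal f' b) x }⟩

end Groth.L17.FlatPair
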