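import Groth.Agent.L17.FlatPair.TensAffine
import Groth.Agent.L17.FlatBase.DegZero
import Groth.Agent.L17.FlatBase.CxTools
import Groth.Agent.L17.ClosedPush
import Groth.Agent.L17.FlatPair.Flat
import Groth.Prelude.Def_FlatMod2

/-!
The functor `F ↦ f'^* G ⊗ g'^* F` and the pairing of sections.
-/

set_option autoImplicit false
set_option linter.style.haveILetI false
set_option linter.unusedSectionVars false
set_option backward.isDefEq.respectTransparency false
set_option backward.isDefEq.respectTransparency.types false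

universe u

open CategoryTheory CategoryTheory.Limits AlgebraicGeometry TopologicalSpace Opposite
open scoped TensorProduct
noncomputable section

namespace Groth.L17.FlatPair

open Groth.L18.Frame (rs ro pull rs_rs rs_self rs_smul ro_ro pull_rs pull_smul)
open Groth.L18.GenLoc (tens tens_rs tens_smul_left tens_smul_right)
open Groth.L00.Tensor (tensorLeftF tensorMap)
open Groth.L17.DegZero

section Func

variable {X X' : Scheme.{u}} (g' : X' ⟶ X) (P : X'.Modules)

/-- The functor `F ↦ P ⊗ g'^* F`. -/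
abbrev E : X.Modules ⥤ X'.Modules := Scheme.Modules.pullback g' ⋙ tensorLeftF P

theorem preservesColimits_E : PreservesFiniteColimits (E g' P) := by
  haveI := CxTools.preservesFiniteColimits_pullback g'
  haveI : PreservesColimitsOfSize.{0, 0} (tensorLeftF P) := preservesColimitsOfSize_shrink.{0, u, 0, u} _
  haveI : PreservesFiniteColimits (tensorLeftF P) := PreservesColimitsOfSize.preservesFiniteColimits.{0, 0} _
  exact comp_preservesFiniteColimits _ _

theorem additive_E : (E g' P).Additive := by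
  haveI := preservesColimits_E g' P
  haveI := preservesBinaryBiproducts_of_preservesBinaryCoproducts (E g' P)
  exact Functor.additive_of_preservesBinaryBiproducts _

variable {P}

/-- Exactness, for `P` flat over the base. -/
theorem preservesFiniteLimits_E (hP : FlatMod.IsFlatOver g' P) : PreservesFiniteLimits (E g' P) := by
  haveI := additive_E g' P
  haveI := preservesColimits_E g' P
  haveI : (E g' P).PreservesMonomorphisms := ⟨fun {M N} i _ => by
    refine (Groth.L21.Mod.mono_iff_stalk_injective _).2 fun x => ?_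
    let O := X.presheaf.stalk (g' x)
    let O' := X'.presheaf.stalk x
    letI : Algebra O O' := (Groth.L00.PullStalk.φ g' x).toAlgebra
    let Px := (Groth.L00.Stk.F X' x).obj P
    letI : Module O Px := FlatMod.moduleStalkOver g' P x
    haveI : IsScalarTower O O' Px := IsScalarTower.of_algebraMap_smul fun _ _ => rfl
    haveI : Module.Flat O Px := hP x
    have hi : Function.Injective ((Groth.L00.Stk.F X (g' x)).map i) :=
      (Groth.L21.Mod.mono_iff_stalk_injective i).1 ‹Mono i› (g' x)
    let j : (Groth.L00.Stk.F X (g' x)).obj M →ₗ[O] (Groth.L00.Stk.F X (g' x)).obj N :=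
      ((Groth.L00.Stk.F X (g' x)).map i).hom
    let eM : ((Groth.L00.Stk.F X' x).obj ((Scheme.Modules.pullback g').obj M)) ≃ₗ[O']
        O' ⊗[O] (Groth.L00.Stk.F X (g' x)).obj M := ((Groth.L00.PullStalk.stalkIso g' x).app M).toLinearEquiv
    let eN : ((Groth.L00.Stk.F X' x).obj ((Scheme.Modules.pullback g').obj N)) ≃ₗ[O']
        O' ⊗[O] (Groth.L00.Stk.F X (g' x)).obj N := ((Groth.L00.PullStalk.stalkIso g' x).app N).toLinearEquiv
    let aM := (TensorProduct.congr (LinearEquiv.refl O' Px) eM) ≪≫ₗ
      TensorProduct.AlgebraTensorModule.cancelBaseChange O O' O' Px ((Groth.L00.Stk.F X (g' x)).obj M)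
    let aN := (TensorProduct.congr (LinearEquiv.refl O' Px) eN) ≪≫ₗ
      TensorProduct.AlgebraTensorModule.cancelBaseChange O O' O' Px ((Groth.L00.Stk.F X (g' x)).obj N)
    let k : ((Groth.L00.Stk.F X' x).obj ((Scheme.Modules.pullback g').obj M)) →ₗ[O']
        (Groth.L00.Stk.F X' x).obj ((Scheme.Modules.pullback g').obj N) :=
      ((Groth.L00.Stk.F X' x).map ((Scheme.Modules.pullback g').map i)).hom
    have hk : ∀ m, eN (k m) = j.baseChange O' (eM m) := fun m =>
      ConcreteCategory.congr_hom ((Groth.L00.PullStalk.stalkIso g' x).hom.naturality i) m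
    have key : ∀ z, aN (TensorProduct.map LinearMap.id k z) = j.lTensor Px (aM z) := fun z => by
      induction z using TensorProduct.induction_on with
      | zero => simp
      | add a b ha hb => simp only [map_add, ha, hb]
      | tmul p m =>
        show TensorProduct.AlgebraTensorModule.cancelBaseChange O O' O' Px _ (p ⊗ₜ eN (k m)) =
          j.lTensor Px (TensorProduct.AlgebraTensorModule.cancelBaseChange O O' O' Px _ (p ⊗ₜ eM m))
        rw [hk]
        induction eM m using TensorProduct.induction_on with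
        | zero => simp
        | add a b ha hb => simp only [map_add, TensorProduct.tmul_add, ha, hb]
        | tmul r y => simp
    have hinj : Function.Injective (TensorProduct.map (LinearMap.id : Px →ₗ[O'] Px) k) := fun a b hab =>
      aM.injective (Module.Flat.lTensor_preserves_injective_linearMap j hi
        ((key a).symm.trans ((congrArg aN hab).trans (key b))))
    have hn := Groth.L00.Stk.τ_natural x (𝟙 P) ((Scheme.Modules.pullback g').map i)
    intro a b hab
    obtain ⟨a, rfl⟩ := (Groth.L00.Stk.τ x P ((Scheme.Modules.pullback g').obj M)).toLinearEquiv.surjective a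
    obtain ⟨b, rfl⟩ := (Groth.L00.Stk.τ x P ((Scheme.Modules.pullback g').obj M)).toLinearEquiv.surjective b
    refine congrArg _ (hinj ?_)
    apply (Groth.L00.Stk.τ x P ((Scheme.Modules.pullback g').obj N)).toLinearEquiv.injective
    have e1 : ((Groth.L00.Stk.F X' x).map (𝟙 P)).hom = LinearMap.id := by
      rw [CategoryTheory.Functor.map_id]; rfl
    have ha := ConcreteCategory.congr_hom hn a
    have hb := ConcreteCategory.congr_hom hn b
    simp only [e1] at ha hb
    exact ha.trans (hab.trans hb.symm)⟩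
  refine (Functor.preservesFiniteLimits_iff_forall_exact_map_and_mono _).2 fun T hT => ?_
  have := hT.mono_f
  haveI : (E g' P).PreservesHomology := (E g' P).preservesHomology_of_preservesMonos_and_cokernels
  exact ⟨hT.exact.map _, inferInstance⟩

end Func

variable {X S X' S' : Scheme.{u}} (f : X ⟶ S) (g : S' ⟶ S) (g' : X' ⟶ X) (f' : X' ⟶ S') (w : g' ≫ f = f' ≫ g)
  (G : S'.Modules)

theorem isFlatOver_pull {hG : FlatMod.IsFlatOver g G} (hc : IsPullback g' f' f g) :
    FlatMod.IsFlatOver g' ((Scheme.Modules.pullback f').obj G) :=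
  isFlatOver_pullback hc.flip hG

section Sec

variable (F : X.Modules) {V : S.Opens} {V' : S'.Opens} (eV : V' ≤ g ⁻¹ᵁ V)

/-- The pairing. -/
def γ {W : X.Opens} (e : W ≤ f ⁻¹ᵁ V) (W' : X'.Opens) (e₁ : W' ≤ g' ⁻¹ᵁ W) (e₂ : W' ≤ f' ⁻¹ᵁ V') :
    SecA g G eV ⊗[Γ(S, V)] SecA f F e →+ Γ((E g' ((Scheme.Modules.pullback f').obj G)).obj F, W') :=
  TensorProduct.liftAddHom
    (AddMonoidHom.mk' (fun n => AddMonoidHom.mk'
        (fun m => tens ((Scheme.Modules.pullback f').obj G) ((Scheme.Modules.pullback g').obj F) W'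
          (rs _ e₂ (pull f' G V' n)) (rs _ e₁ (pull g' F W m)))
        fun m m' => by
          refine (congrArg (tens _ _ W' _) ((congrArg (rs _ e₁)
            (map_add (((Scheme.Modules.pullbackPushforwardAdjunction g').unit.app F).app W).hom m m')).trans
              (map_add _ _ _))).trans (tens_add_right _ _ _ _ _ _))
      fun n n' => AddMonoidHom.ext fun m => by
        refine (congrArg (fun a => tens _ _ W' a _) ((congrArg (rs _ e₂)
            (map_add (((Scheme.Modules.pullbackPushforwardAdjunction f').unit.app G).app V').hom n n')).trans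
              (map_add _ _ _))).trans (tens_add_left _ _ _ _ _ _))
    fun a n m => by
      show tens _ _ W' (rs _ e₂ (pull f' G V' ((g.appLE V V' eV).hom a • (show Γ(G, V') from n))))
          (rs _ e₁ (pull g' F W m)) =
        tens _ _ W' (rs _ e₂ (pull f' G V' n))
          (rs _ e₁ (pull g' F W ((f.appLE V W e).hom a • (show Γ(F, W) from m))))
      rw [pull_smul, rs_smul, pull_smul, rs_smul, tens_smul_left, tens_smul_right]
      congr 1
      exact (appLE_compat f g g' f' w eV e e₁ e₂ a).symm

theorem γ_tmul {W : X.Opens} (e : W ≤ f ⁻¹ᵁ V) (W' : X'.Opens) (e₁ : W' ≤ g' ⁻¹ᵁ W) (e₂ : W' ≤ f' ⁻¹ᵁ V')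
    (n : SecA g G eV) (m : SecA f F e) :
    γ f g g' f' w G F eV e W' e₁ e₂ (n ⊗ₜ m) =
      tens ((Scheme.Modules.pullback f').obj G) ((Scheme.Modules.pullback g').obj F) W'
        (rs _ e₂ (pull f' G V' n)) (rs _ e₁ (pull g' F W m)) := rfl

theorem γ_res {W W₁ : X.Opens} (e : W ≤ f ⁻¹ᵁ V) (h : W₁ ≤ W) {W' W₁' : X'.Opens} (e₁ : W' ≤ g' ⁻¹ᵁ W)
    (e₂ : W' ≤ f' ⁻¹ᵁ V') (h' : W₁' ≤ W') (e₁' : W₁' ≤ g' ⁻¹ᵁ W₁) (z : SecA g G eV ⊗[Γ(S, V)] SecA f F e) :
    γ f g g' f' w G F eV (h.trans e) W₁' e₁' (h'.trans e₂) ((resA f F e h).lTensor _ z) =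
      rs _ h' (γ f g g' f' w G F eV e W' e₁ e₂ z) := by
  induction z using TensorProduct.induction_on with
  | zero => simp only [map_zero]
  | add x y hx hy => simp only [map_add, hx, hy]
  | tmul c m =>
    rw [LinearMap.lTensor_tmul, γ_tmul, γ_tmul]
    refine Eq.trans ?_ (tens_rs h' _ _).symm
    rw [rs_rs, rs_rs]
    congr 1
    show rs _ e₁' (pull g' F W₁ (rs F h (show Γ(F, W) from m))) = _
    rw [← pull_rs, rs_rs]

theorem bijective_γ (hc : IsPullback g' f' f g) [Coh.IsQCoh F] [Coh.IsQCoh G] (hV : IsAffineOpen V)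
    (hV' : IsAffineOpen V') {W : X.Opens} (hW : IsAffineOpen W) (e : W ≤ f ⁻¹ᵁ V) :
    Function.Bijective (γ f g g' f' w G F eV e (g' ⁻¹ᵁ W ⊓ f' ⁻¹ᵁ V') inf_le_left inf_le_right) := by
  have hpb := Scheme.Hom.isPullback_resLE hc (UT := V') eV e (UY := g' ⁻¹ᵁ W ⊓ f' ⁻¹ᵁ V') rfl
  haveI : IsAffine V.toScheme := hV
  haveI : IsAffine W.toScheme := hW
  haveI : IsAffine V'.toScheme := hV'
  have hU : IsAffineOpen (g' ⁻¹ᵁ W ⊓ f' ⁻¹ᵁ V') := IsAffine.of_isPullback hpb
  set U := g' ⁻¹ᵁ W ⊓ f' ⁻¹ᵁ V' with hUdef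
  have eU : U ≤ g' ⁻¹ᵁ W := inf_le_left
  have eU' : U ≤ f' ⁻¹ᵁ V' := inf_le_right
  letI alg : Algebra Γ(S, V) Γ(S', V') := (g.appLE V V' eV).hom.toAlgebra
  haveI hQF : Coh.IsQCoh ((Scheme.Modules.pullback g').obj F) := Groth.L16.AffineBC.isQCoh_pullback g' F
  haveI hPG : Coh.IsQCoh ((Scheme.Modules.pullback f').obj G) := Groth.L16.AffineBC.isQCoh_pullback f' G
  have hβ := good_affine f g g' f' w F eV alg rfl hc hV hV' hW e
  letI : Algebra Γ(S', V') Γ(X', U) := (f'.appLE V' U eU').hom.toAlgebra
  letI : Module Γ(S', V') Γ((Scheme.Modules.pullback g').obj F, U) :=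
    Module.compHom _ (f'.appLE V' U eU').hom
  haveI : IsScalarTower Γ(S', V') Γ(X', U) Γ((Scheme.Modules.pullback g').obj F, U) :=
    IsScalarTower.of_algebraMap_smul fun _ _ => rfl
  letI : Module Γ(S', V') Γ((Scheme.Modules.pullback f').obj G, U) :=
    Module.compHom _ (f'.appLE V' U eU').hom
  haveI : IsScalarTower Γ(S', V') Γ(X', U) Γ((Scheme.Modules.pullback f').obj G, U) :=
    IsScalarTower.of_algebraMap_smul fun _ _ => rfl
  letI : Module Γ(S', V') (SecA g G eV) := inferInstanceAs (Module Γ(S', V') Γ(G, V'))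
  haveI : IsScalarTower Γ(S, V) Γ(S', V') (SecA g G eV) := IsScalarTower.of_algebraMap_smul fun _ _ => rfl
  let b := β f g g' f' w F eV alg rfl e U eU eU'
  let bL : Γ(S', V') ⊗[Γ(S, V)] SecA f F e →ₗ[Γ(S', V')] Γ((Scheme.Modules.pullback g').obj F, U) :=
    { toFun := b
      map_add' := map_add b
      map_smul' := fun c z => by
        induction z using TensorProduct.induction_on with
        | zero => simp
        | add x y hx hy => simp only [smul_add, map_add, hx, hy]
        | tmul c' m =>
          show β f g g' f' w F eV alg rfl e U eU eU' ((c * c') ⊗ₜ m) =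
            (f'.appLE V' U eU').hom c • β f g g' f' w F eV alg rfl e U eU eU' (c' ⊗ₜ m)
          rw [β_tmul, β_tmul, map_mul, mul_smul] }
  let eβ := LinearEquiv.ofBijective bL hβ
  have hbc := Groth.L16.AffineBC.isBaseChange_pull f' G hV' hU eU'
  let Φ : SecA g G eV ⊗[Γ(S, V)] SecA f F e ≃+
      Γ((Scheme.Modules.pullback f').obj G, U) ⊗[Γ(X', U)] Γ((Scheme.Modules.pullback g').obj F, U) :=
    ((TensorProduct.AlgebraTensorModule.cancelBaseChange Γ(S, V) Γ(S', V') Γ(S', V') (SecA g G eV)
        (SecA f F e)).symm.toAddEquiv.trans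
      ((TensorProduct.congr (LinearEquiv.refl Γ(S', V') (SecA g G eV)) eβ).toAddEquiv.trans
        ((TensorProduct.comm Γ(S', V') _ _).toAddEquiv.trans
          ((TensorProduct.AlgebraTensorModule.cancelBaseChange Γ(S', V') Γ(X', U) Γ(X', U)
              Γ((Scheme.Modules.pullback g').obj F, U) (SecA g G eV)).symm.toAddEquiv.trans
            ((TensorProduct.congr (LinearEquiv.refl _ _) hbc.equiv).toAddEquiv.trans
              (TensorProduct.comm Γ(X', U) _ _).toAddEquiv)))))
  have key : ∀ z, γ f g g' f' w G F eV e U eU eU' z = secTens _ _ U (Φ z) := fun z => by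
    induction z using TensorProduct.induction_on with
    | zero => simp only [map_zero]
    | add x y hx hy => simp only [map_add, hx, hy]
    | tmul n m =>
      have h1 : hbc.equiv ((1 : Γ(X', U)) ⊗ₜ (show Γ(G, V') from n)) = rs _ eU' (pull f' G V' n) :=
        (hbc.equiv_tmul _ _).trans (one_smul _ _)
      have h2 : b ((1 : Γ(S', V')) ⊗ₜ m) = rs _ eU (pull g' F W m) := by
        show β f g g' f' w F eV alg rfl e U eU eU' _ = _
        rw [β_tmul, map_one, one_smul]
      rw [γ_tmul, ← h1, ← h2]
      rfl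
  rw [show ⇑(γ f g g' f' w G F eV e U eU eU') = secTens _ _ U ∘ Φ from funext key]
  exact (bijective_secTens _ _ hU).comp Φ.bijective

end Sec

end Groth.L17.FlatPair
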