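import Groth.Agent.L17.FlatPair.PairTheta
import Groth.Agent.L17.FlatBase.CxIso

/-!
Base change with a flat coefficient module: `G ⊗ g^* R^q f_* M ≅ R^q f'_*(f'^* G ⊗ g'^* M)`.
-/

set_option autoImplicit false
set_option linter.style.haveILetI false
set_option linter.unusedSectionVars false
set_option backward.isDefEq.respectTransparency false
set_option backward.isDefEq.respectTransparency.types false

universe u

open CategoryTheory CategoryTheory.Limits AlgebraicGeometry TopologicalSpace Opposite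
open scoped TensorProduct
noncomputable section

namespace Groth.L17.FlatPair

open Groth.L18.Frame (rs ro pull rs_rs rs_self rs_smul)
open Groth.L18.GenLoc (tens tens_rs tens_smul_left tens_smul_right)
open Groth.L00.Tensor (tensorLeftF tensorMap tensorMap_comp)
open Groth.L17.DegZero
open Groth.L17.CxTheta (secMap pr rs_add rs_zero)
open Groth.L17.CxIso (vMap_naturality cC isQCoh_homology)

attribute [local instance] CxTools.additive_pullback CxTools.preservesFiniteColimits_pullback PushQCoh.additive_push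
  additive_E preservesColimits_E

variable {X S X' S' : Scheme.{u}} (f : X ⟶ S) (g : S' ⟶ S) (g' : X' ⟶ X) (f' : X' ⟶ S') (w : g' ≫ f = f' ≫ g)
  (G : S'.Modules)

/-- The base change map in degree zero. -/
abbrev bc (F : X.Modules) : (Scheme.Modules.pullback g).obj ((Scheme.Modules.pushforward f).obj F) ⟶
    (Scheme.Modules.pushforward f').obj ((Scheme.Modules.pullback g').obj F) :=
  ((Scheme.Modules.pullbackPushforwardAdjunction g).homEquiv _ _).symm (vMap f g g' f' w F)

theorem bc_naturality {F F' : X.Modules} (φ : F ⟶ F') :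
    (Scheme.Modules.pullback g).map ((Scheme.Modules.pushforward f).map φ) ≫ bc f g g' f' w F' =
      bc f g g' f' w F ≫ (Scheme.Modules.pushforward f').map ((Scheme.Modules.pullback g').map φ) := by
  rw [← Adjunction.homEquiv_naturality_left_symm, vMap_naturality, Adjunction.homEquiv_naturality_right_symm]

/-- The base change map with coefficients. -/
def θc (F : X.Modules) : (E g G).obj ((Scheme.Modules.pushforward f).obj F) ⟶
    (Scheme.Modules.pushforward f').obj ((E g' ((Scheme.Modules.pullback f').obj G)).obj F) :=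
  tensorMap ((Scheme.Modules.pullbackPushforwardAdjunction f').unit.app G) (bc f g g' f' w F) ≫
    Groth.L17.ClosedPush.μ f' ((Scheme.Modules.pullback f').obj G) ((Scheme.Modules.pullback g').obj F)

theorem θc_naturality {F F' : X.Modules} (φ : F ⟶ F') :
    (E g G).map ((Scheme.Modules.pushforward f).map φ) ≫ θc f g g' f' w G F' =
      θc f g g' f' w G F ≫ (Scheme.Modules.pushforward f').map ((E g' ((Scheme.Modules.pullback f').obj G)).map φ) := by
  show tensorMap (𝟙 G) ((Scheme.Modules.pullback g).map ((Scheme.Modules.pushforward f).map φ)) ≫ tensorMap _ _ ≫ _ =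
    (tensorMap _ _ ≫ _) ≫ (Scheme.Modules.pushforward f').map (tensorMap (𝟙 _) ((Scheme.Modules.pullback g').map φ))
  rw [Category.assoc, ← μ_natural, ← Category.assoc, ← Category.assoc, ← tensorMap_comp,
    ← tensorMap_comp, bc_naturality, CategoryTheory.Functor.map_id, Category.id_comp]
  erw [Category.comp_id]

theorem θc_app {F : X.Modules} {V : S.Opens} {V' : S'.Opens} (eV : V' ≤ g ⁻¹ᵁ V)
    (h' : f' ⁻¹ᵁ V' ≤ g' ⁻¹ᵁ (f ⁻¹ᵁ V)) (c : Γ(G, V')) (s : Γ(F, f ⁻¹ᵁ V)) :
    (θc f g g' f' w G F).app V' (tens G ((Scheme.Modules.pullback g).obj ((Scheme.Modules.pushforward f).obj F)) V' c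
        (rs _ eV (pull g ((Scheme.Modules.pushforward f).obj F) V s))) =
      tens ((Scheme.Modules.pullback f').obj G) ((Scheme.Modules.pullback g').obj F) (f' ⁻¹ᵁ V')
        (pull f' G V' c) (rs _ h' (pull g' F (f ⁻¹ᵁ V) s)) := by
  have hw : f' ⁻¹ᵁ (g ⁻¹ᵁ V) ≤ g' ⁻¹ᵁ (f ⁻¹ᵁ V) := fun x hx => by
    show f (g' x) ∈ V
    rw [← Scheme.Hom.comp_apply, w, Scheme.Hom.comp_apply]
    exact hx
  have hb : (bc f g g' f' w F).app V' (rs _ eV (pull g ((Scheme.Modules.pushforward f).obj F) V s)) =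
      rs _ h' (pull g' F (f ⁻¹ᵁ V) s) := by
    rw [app_rs]
    refine (congrArg (rs _ eV) ((transpose_app g (vMap f g g' f' w F) V s).trans
      (vMap_app f g g' f' w F V hw s))).trans ?_
    exact rs_rs _ hw (f'.preimage_mono eV) _
  refine (congrArg ((Groth.L17.ClosedPush.μ f' ((Scheme.Modules.pullback f').obj G)
    ((Scheme.Modules.pullback g').obj F)).app V') (Groth.L17.ClosedPush.tensorMap_unit _ _ V' c _)).trans ?_
  refine (Groth.L17.ClosedPush.μ_unit f' _ _ V' _ _).trans ?_
  exact congrArg (tens ((Scheme.Modules.pullback f').obj G) ((Scheme.Modules.pullback g').obj F) (f' ⁻¹ᵁ V')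
    (pull f' G V' c)) hb

variable {M : X.Modules} (I : InjectiveResolution M)
  (J : InjectiveResolution ((E g' ((Scheme.Modules.pullback f').obj G)).obj M))
  (η : ((E g' ((Scheme.Modules.pullback f').obj G)).mapHomologicalComplex _).obj I.cocomplex ⟶ J.cocomplex)

/-- The direct image of the resolution upstairs. -/
abbrev cD' : CochainComplex S'.Modules ℕ :=
  ((Scheme.Modules.pushforward f').mapHomologicalComplex _).obj J.cocomplex

/-- The comparison of complexes. -/
def uP : ((E g G).mapHomologicalComplex _).obj (cC f I) ⟶ cD' g' f' G J where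
  f n := θc f g g' f' w G (I.cocomplex.X n) ≫ (Scheme.Modules.pushforward f').map (η.f n)
  comm' i j _ := by
    show (θc f g g' f' w G (I.cocomplex.X i) ≫ (Scheme.Modules.pushforward f').map (η.f i)) ≫
        (Scheme.Modules.pushforward f').map (J.cocomplex.d i j) =
      (E g G).map ((Scheme.Modules.pushforward f).map (I.cocomplex.d i j)) ≫
        θc f g g' f' w G (I.cocomplex.X j) ≫ (Scheme.Modules.pushforward f').map (η.f j)
    rw [Category.assoc, ← Functor.map_comp, η.comm i j, ← Category.assoc, θc_naturality, Category.assoc]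
    exact congrArg (_ ≫ ·) (Functor.map_comp _ _ _)

variable [PreservesFiniteLimits (E g G)]

/-- The comparison on homology. -/
def ψP (n : ℕ) : (E g G).obj ((cC f I).homology n) ⟶ (cD' g' f' G J).homology n :=
  (CxTools.homologyI (E g G) (cC f I) n).inv ≫ HomologicalComplex.homologyMap (uP f g g' f' w G I J η) n

omit [PreservesFiniteLimits (E g G)] in
theorem E_app {V : S.Opens} {V' : S'.Opens} (eV : V' ≤ g ⁻¹ᵁ V) {A B : S.Modules} (φ : A ⟶ B) (c : Γ(G, V'))
    (a : Γ(A, V)) :
    ((E g G).map φ).app V' (tens G ((Scheme.Modules.pullback g).obj A) V' c (rs _ eV (pull g A V a))) =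
      tens G ((Scheme.Modules.pullback g).obj B) V' c (rs _ eV (pull g B V (φ.app V a))) := by
  refine (Groth.L17.ClosedPush.tensorMap_unit (𝟙 G) ((Scheme.Modules.pullback g).map φ) V' c _).trans ?_
  refine congrArg (tens G ((Scheme.Modules.pullback g).obj B) V' c) ?_
  rw [app_rs, CxTools.pull_app]

theorem isClass_ψP {V : S.Opens} {V' : S'.Opens} (eV : V' ≤ g ⁻¹ᵁ V) (h' : f' ⁻¹ᵁ V' ≤ g' ⁻¹ᵁ (f ⁻¹ᵁ V)) (n : ℕ)
    {s : Γ(I.cocomplex.X n, f ⁻¹ᵁ V)} {h : Γ((cC f I).homology n, V)}
    (hs : CxTools.IsClass (cC f I) n V s h) (c : Γ(G, V')) :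
    CxTools.IsClass (cD' g' f' G J) n V'
      ((η.f n).app (f' ⁻¹ᵁ V') (tens ((Scheme.Modules.pullback f').obj G)
        ((Scheme.Modules.pullback g').obj (I.cocomplex.X n)) (f' ⁻¹ᵁ V') (pull f' G V' c)
        (rs _ h' (pull g' (I.cocomplex.X n) (f ⁻¹ᵁ V) s))))
      ((ψP f g g' f' w G I J η n).app V' (tens G _ V' c (rs _ eV (pull g _ V h)))) := by
  obtain ⟨z, hz1, hz2⟩ := hs
  have h1 : CxTools.IsClass (((E g G).mapHomologicalComplex _).obj (cC f I)) n V'
      (tens G ((Scheme.Modules.pullback g).obj ((cC f I).X n)) V' c (rs _ eV (pull g ((cC f I).X n) V s)))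
      ((CxTools.homologyI (E g G) (cC f I) n).inv.app V'
        (tens G ((Scheme.Modules.pullback g).obj ((cC f I).homology n)) V' c (rs _ eV (pull g _ V h)))) := by
    refine ⟨(CxTools.cyclesI (E g G) (cC f I) n).inv.app V'
      (tens G ((Scheme.Modules.pullback g).obj ((cC f I).cycles n)) V' c (rs _ eV (pull g _ V z))), ?_, ?_⟩
    · rw [← hz1, ← E_app g G eV ((cC f I).iCycles n) c z]
      exact congr($(congrArg (fun k => Scheme.Modules.Hom.app k V')
        ((Iso.inv_comp_eq _).2 (CxTools.cyclesI_iCycles (E g G) (cC f I) n).symm)) _)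
    · have e : (CxTools.cyclesI (E g G) (cC f I) n).inv ≫
          (((E g G).mapHomologicalComplex _).obj (cC f I)).homologyπ n =
          (E g G).map ((cC f I).homologyπ n) ≫ (CxTools.homologyI (E g G) (cC f I) n).inv := by
        rw [Iso.inv_comp_eq, ← Category.assoc, Iso.eq_comp_inv]
        exact CxTools.π_homologyI (E g G) (cC f I) n
      rw [← hz2, ← E_app g G eV ((cC f I).homologyπ n) c z]
      exact congr($(congrArg (fun k => Scheme.Modules.Hom.app k V') e) _)
  have h2 := h1.map (uP f g g' f' w G I J η)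
  have e1 : ((uP f g g' f' w G I J η).f n).app V'
      (tens G ((Scheme.Modules.pullback g).obj ((cC f I).X n)) V' c (rs _ eV (pull g ((cC f I).X n) V s))) =
      (η.f n).app (f' ⁻¹ᵁ V') (tens ((Scheme.Modules.pullback f').obj G)
        ((Scheme.Modules.pullback g').obj (I.cocomplex.X n)) (f' ⁻¹ᵁ V') (pull f' G V' c)
        (rs _ h' (pull g' (I.cocomplex.X n) (f ⁻¹ᵁ V) s))) :=
    congrArg ((η.f n).app (f' ⁻¹ᵁ V')) (θc_app f g g' f' w G eV h' c s)
  rw [e1] at h2
  exact h2

variable [QuasiCompact f] [QuasiSeparated f] [QuasiCompact f'] [QuasiSeparated f'] [Coh.IsQCoh M] [Coh.IsQCoh G]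
  [HasInjectiveResolutions X.Modules] [HasInjectiveResolutions X'.Modules]

theorem isIso_ψP (hc : IsPullback g' f' f g) (hGf : FlatMod.IsFlatOver g G)
    (hη : (E g' ((Scheme.Modules.pullback f').obj G)).map (I.ι.f 0) ≫ η.f 0 = J.ι.f 0) (n : ℕ) :
    IsIso (ψP f g g' f' w G I J η n) := by
  haveI : Coh.IsQCoh ((E g' ((Scheme.Modules.pullback f').obj G)).obj M) :=
    haveI := Groth.L16.AffineBC.isQCoh_pullback f' G
    haveI := Groth.L16.AffineBC.isQCoh_pullback g' M
    Groth.L00.Tensor.isQCoh_tensorMod _ _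
  haveI := I.injective
  haveI := J.injective
  have hqC : ∀ m, Coh.IsQCoh ((cC f I).homology m) := isQCoh_homology f I
  have hqD : ∀ m, Coh.IsQCoh ((cD' g' f' G J).homology m) := isQCoh_homology f' J
  haveI := hqC n
  refine isIso_of_affine _ fun z => ?_
  obtain ⟨_, ⟨V, hV, rfl⟩, hzV, -⟩ :=
    S.isBasis_affineOpens.exists_subset_of_mem_open (Set.mem_univ (g z)) isOpen_univ
  refine ⟨g ⁻¹ᵁ V, hzV, fun V' eV hV' => ?_⟩
  haveI : Module.Flat Γ(S, V) (SecA g G eV) := flat_appLE g G hGf hV' eV hV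
  set H := (cC f I).homology n
  obtain ⟨sC, kC⟩ := CxTools.classes_affine hV (cC f I)
    (fun m => CohSections.acyclic_push_injective f V (I.cocomplex.X m)) hqC n
  obtain ⟨sD, kD⟩ := CxTools.classes_affine hV' (cD' g' f' G J)
    (fun m => CohSections.acyclic_push_injective f' V' (J.cocomplex.X m)) hqD n
  obtain ⟨hQ1, hQ2⟩ := qis_preimage f g g' f' w G eV I J η hη hc hV hV' le_rfl n
  have h' : f' ⁻¹ᵁ V' ≤ g' ⁻¹ᵁ (f ⁻¹ᵁ V) := fun x hx => by
    show f (g' x) ∈ V
    rw [← Scheme.Hom.comp_apply, w, Scheme.Hom.comp_apply]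
    exact eV hx
  have hle : f' ⁻¹ᵁ V' ≤ pr f' g' V' (f ⁻¹ᵁ V) := le_inf h' le_rfl
  have hge : pr f' g' V' (f ⁻¹ᵁ V) ≤ f' ⁻¹ᵁ V' := inf_le_right
  let Z := LinearMap.ker (secMap f (I.cocomplex.d n (n + 1)) (le_refl (f ⁻¹ᵁ V)))
  have hcls : ∀ s : Z, ∃ h, CxTools.IsClass (cC f I) n V s.1 h := fun s =>
    CxTools.exists_isClass (show ((cC f I).d n (n + 1)).app V s.1 = 0 from s.2)
  let cls : Z →ₗ[Γ(S, V)] Γ(H, V) :=
    { toFun := fun s => (hcls s).choose
      map_add' := fun a b => (hcls (a + b)).choose_spec.unique ((hcls a).choose_spec.add (hcls b).choose_spec)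
      map_smul' := fun a s => by
        refine (hcls (a • s)).choose_spec.unique ?_
        convert (hcls s).choose_spec.smul a using 1 <;> try rfl
        show (f.appLE V (f ⁻¹ᵁ V) le_rfl).hom a • (show Γ(I.cocomplex.X n, f ⁻¹ᵁ V) from s.1) =
          (f.app V).hom a • (show Γ(I.cocomplex.X n, f ⁻¹ᵁ V) from s.1)
        rw [Scheme.Hom.app_eq_appLE] }
  have hclsI : ∀ s : Z, CxTools.IsClass (cC f I) n V s.1 (cls s) := fun s => (hcls s).choose_spec
  have hclsS : Function.Surjective cls := fun h => by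
    obtain ⟨s, hs⟩ := sC h
    exact ⟨⟨s, hs.d_eq_zero⟩, (hclsI ⟨s, hs.d_eq_zero⟩).unique hs⟩
  haveI : Coh.IsQCoh ((Scheme.Modules.pullback g).obj H) := Groth.L16.AffineBC.isQCoh_pullback g H
  letI : Algebra Γ(S, V) Γ(S', V') := (g.appLE V V' eV).hom.toAlgebra
  letI : Module Γ(S, V) Γ((Scheme.Modules.pullback g).obj H, V') := Module.compHom _ (g.appLE V V' eV).hom
  haveI : IsScalarTower Γ(S, V) Γ(S', V') Γ((Scheme.Modules.pullback g).obj H, V') :=
    IsScalarTower.of_algebraMap_smul fun _ _ => rfl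
  letI : Module Γ(S', V') (SecA g G eV) := inferInstanceAs (Module Γ(S', V') Γ(G, V'))
  haveI : IsScalarTower Γ(S, V) Γ(S', V') (SecA g G eV) := IsScalarTower.of_algebraMap_smul fun _ _ => rfl
  have hbc := Groth.L16.AffineBC.isBaseChange_pull g H hV hV' eV
  let p := (ComplexShape.up ℕ).prev n
  let e₀ : SecA g G eV ⊗[Γ(S, V)] Γ(H, V) ≃+ Γ(G, V') ⊗[Γ(S', V')] Γ((Scheme.Modules.pullback g).obj H, V') :=
    (TensorProduct.AlgebraTensorModule.cancelBaseChange Γ(S, V) Γ(S', V') Γ(S', V') (SecA g G eV)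
      Γ(H, V)).symm.toAddEquiv.trans (TensorProduct.congr (LinearEquiv.refl Γ(S', V') (SecA g G eV)) hbc.equiv).toAddEquiv
  let ex : SecA g G eV ⊗[Γ(S, V)] Γ(H, V) →+ Γ((E g G).obj H, V') :=
    (secTens G ((Scheme.Modules.pullback g).obj H) V').toAddMonoidHom.comp e₀.toAddMonoidHom
  have hex : Function.Bijective ex :=
    (bijective_secTens G ((Scheme.Modules.pullback g).obj H) hV').comp e₀.bijective
  have hex_tmul : ∀ (c : SecA g G eV) (h : Γ(H, V)),
      ex (c ⊗ₜ h) = tens G ((Scheme.Modules.pullback g).obj H) V' c (rs _ eV (pull g H V h)) := fun c h => by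
    show tens G ((Scheme.Modules.pullback g).obj H) V' c (hbc.equiv ((1 : Γ(S', V')) ⊗ₜ h)) = _
    rw [IsBaseChange.equiv_tmul, one_smul]
    rfl
  let T' : SecA g G eV ⊗[Γ(S, V)] Z → Γ(J.cocomplex.X n, f' ⁻¹ᵁ V') := fun z =>
    rs _ hle (T f g g' f' w G eV I J η le_rfl n (Z.subtype.lTensor _ z))
  let x : SecA g G eV ⊗[Γ(S, V)] Z → Γ((E g G).obj H, V') := fun z => ex (cls.lTensor _ z)
  have key : ∀ z, CxTools.IsClass (cD' g' f' G J) n V' (T' z) ((ψP f g g' f' w G I J η n).app V' (x z)) :=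
      fun z => by
    induction z using TensorProduct.induction_on with
    | zero =>
      simp only [T', x, map_zero, rs_zero]
      exact CxTools.isClass_zero
    | add a b ha hb =>
      simp only [T', x, map_add, rs_add]
      exact ha.add hb
    | tmul c s =>
      have := isClass_ψP f g g' f' w G I J η eV h' n (hclsI s) c
      convert this using 1
      · show rs _ hle (T f g g' f' w G eV I J η le_rfl n (c ⊗ₜ s.1)) = _
        rw [T_apply, γ_tmul]
        refine (app_rs (η.f n) hle _).symm.trans (congrArg ((η.f n).app (f' ⁻¹ᵁ V')) ?_)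
        refine (tens_rs hle _ _).trans ?_
        rw [rs_rs, rs_rs, rs_self]
      · show (ψP f g g' f' w G I J η n).app V' (ex (c ⊗ₜ cls s)) = _
        rw [hex_tmul]
  have hxS : Function.Surjective x := hex.2.comp (LinearMap.lTensor_surjective _ hclsS)
  have hsub : Function.Injective (Z.subtype.lTensor (SecA g G eV)) :=
    Module.Flat.lTensor_preserves_injective_linearMap _ Z.injective_subtype
  refine ⟨(injective_iff_map_eq_zero _).2 fun a ha => ?_, fun t => ?_⟩
  · obtain ⟨z, rfl⟩ := hxS a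
    have hk := key z
    rw [ha] at hk
    obtain ⟨y, hy⟩ := kD _ hk
    have hz : dB f g G eV I le_rfl n (n + 1) (Z.subtype.lTensor _ z) = 0 := by
      rw [dB, ← LinearMap.comp_apply, ← LinearMap.lTensor_comp,
        show (secMap f (I.cocomplex.d n (n + 1)) (le_refl (f ⁻¹ᵁ V))).comp Z.subtype = 0 from
          LinearMap.ext fun s => s.2, LinearMap.lTensor_zero]
      rfl
    obtain ⟨x', hx'⟩ := hQ1 _ hz ⟨rs _ hge y, by
      have h2 := congrArg (rs (J.cocomplex.X n) hge)
        (show (J.cocomplex.d p n).app (f' ⁻¹ᵁ V') y = T' z from hy)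
      rw [← app_rs] at h2
      exact (h2.trans ((rs_rs _ hle hge _).trans (rs_self _ _ _))).symm⟩
    let dZ : SecA f (I.cocomplex.X p) (le_refl (f ⁻¹ᵁ V)) →ₗ[Γ(S, V)] Z :=
      (secMap f (I.cocomplex.d p n) le_rfl).codRestrict Z fun s => LinearMap.mem_ker.2
        (congr($(congrArg (fun k => Scheme.Modules.Hom.app k (f ⁻¹ᵁ V)) (I.cocomplex.d_comp_d p n (n + 1))) s))
    have hz' : z = dZ.lTensor _ x' := hsub (by
      rw [← LinearMap.comp_apply (LinearMap.lTensor _ Z.subtype), ← LinearMap.lTensor_comp,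
        LinearMap.subtype_comp_codRestrict]
      exact hx')
    have h0 : cls.comp dZ = 0 := LinearMap.ext fun s =>
      (hclsI (dZ s)).unique (CxTools.isClass_d (K := cC f I) (n := n) p (show Γ((cC f I).X p, V) from s))
    show ex (cls.lTensor _ z) = 0
    rw [hz', ← LinearMap.comp_apply (LinearMap.lTensor _ cls), ← LinearMap.lTensor_comp, h0, LinearMap.lTensor_zero]
    exact map_zero ex
  · obtain ⟨s', hs'⟩ := sD t
    have hd : (J.cocomplex.d n (n + 1)).app (pr f' g' V' (f ⁻¹ᵁ V))
        (rs _ hge (show Γ(J.cocomplex.X n, f' ⁻¹ᵁ V') from s')) = 0 := by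
      rw [app_rs, show (J.cocomplex.d n (n + 1)).app (f' ⁻¹ᵁ V') s' = 0 from hs'.d_eq_zero, rs_zero]
    obtain ⟨z, y, hz, hy⟩ := hQ2 _ hd
    obtain ⟨z₀, rfl⟩ := (Module.Flat.lTensor_exact (SecA g G eV)
      (LinearMap.exact_subtype_ker_map (secMap f (I.cocomplex.d n (n + 1)) (le_refl (f ⁻¹ᵁ V)))) z).1 hz
    refine ⟨x z₀, CxTools.IsClass.unique ?_ hs'⟩
    have h2 := (key z₀).add (CxTools.isClass_d (K := cD' g' f' G J) (n := n) (U := V') p
      (show Γ((cD' g' f' G J).X p, V') from rs (J.cocomplex.X p) hle y))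
    rw [add_zero] at h2
    convert h2 using 1
    have h3 := congrArg (rs (J.cocomplex.X n) hle) hy
    rw [rs_rs, rs_self, rs_add] at h3
    exact h3.trans (congrArg _ (app_rs (J.cocomplex.d p n) hle y).symm)

omit [PreservesFiniteLimits (E g G)] in
/-- Base change with flat coefficients. -/
theorem nonempty_iso_tensor (hc : IsPullback g' f' f g) (hGf : FlatMod.IsFlatOver g G) (n : ℕ) :
    Nonempty ((E g G).obj ((Coh.Rpush f n).obj M) ≅
      (Coh.Rpush f' n).obj ((E g' ((Scheme.Modules.pullback f').obj G)).obj M)) := by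
  haveI := preservesFiniteLimits_E g hGf
  let E' := E g' ((Scheme.Modules.pullback f').obj G)
  haveI : PreservesFiniteLimits E' := preservesFiniteLimits_E g' (isFlatOver_pull f g g' f' G (hG := hGf) hc)
  obtain ⟨I⟩ : Nonempty (InjectiveResolution M) := HasInjectiveResolution.out
  obtain ⟨J⟩ : Nonempty (InjectiveResolution (E'.obj M)) := HasInjectiveResolution.out
  haveI := J.injective
  haveI : E'.PreservesHomology := inferInstance
  obtain ⟨η, hη⟩ := CxTools.exists_chainMap (K := (E'.mapHomologicalComplex _).obj I.cocomplex) (L := J.cocomplex)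
    (E'.map (I.ι.f 0)) (by show E'.map _ ≫ E'.map _ = 0; rw [← E'.map_comp, I.ι_f_zero_comp_complex_d, E'.map_zero])
    (I.exact₀.map E') (fun m => (I.exact_succ m).map E') (J.ι.f 0) J.ι_f_zero_comp_complex_d
  haveI := isIso_ψP f g g' f' hc.w G I J η hc hGf hη n
  exact ⟨(E g G).mapIso (I.isoRightDerivedObj (Scheme.Modules.pushforward f) n) ≪≫
    asIso (ψP f g g' f' hc.w G I J η n) ≪≫ (J.isoRightDerivedObj (Scheme.Modules.pushforward f') n).symm⟩

end Groth.L17.FlatPair
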