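import Groth.Agent.L17.FlatPair.Pair
import Groth.Agent.L17.FlatBase.CxTheta

/-!
A flat module tensored with the sections of an injective resolution computes the sections of an
injective resolution of `f'^* G ⊗ g'^* M`.
-/

set_option autoImplicit false
set_option linter.style.haveILetI false
set_option linter.unusedSectionVars false
set_option backward.isDefEq.respectTransparency false
set_option backward.isDefEq.respectTransparency.types false

universe u

open CategoryTheory CategoryTheory.Limits AlgebraicGeometry TopologicalSpace Opposite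
open scoped TensorProduct
noncomputable section

namespace Groth.L17.FlatPair

open Groth.L18.Frame (rs ro pull rs_rs rs_self rs_smul)
open Groth.L17.DegZero
open Groth.L17.CxTheta (secMap secMap_comp app_zero exists_lift_of_exact exists_d_eq pr pr_mono rs_add rs_sub rs_zero)

attribute [local instance] CxTools.additive_pullback CxTools.preservesFiniteColimits_pullback

variable {X S X' S' : Scheme.{u}} (f : X ⟶ S) (g : S' ⟶ S) (g' : X' ⟶ X) (f' : X' ⟶ S') (w : g' ≫ f = f' ≫ g)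
  (G : S'.Modules) {V : S.Opens} {V' : S'.Opens} (eV : V' ≤ g ⁻¹ᵁ V)

theorem γ_map {F F' : X.Modules} (φ : F ⟶ F') {W : X.Opens} (e : W ≤ f ⁻¹ᵁ V) (W' : X'.Opens)
    (e₁ : W' ≤ g' ⁻¹ᵁ W) (e₂ : W' ≤ f' ⁻¹ᵁ V') (z : SecA g G eV ⊗[Γ(S, V)] SecA f F e) :
    γ f g g' f' w G F' eV e W' e₁ e₂ ((secMap f φ e).lTensor _ z) =
      ((E g' ((Scheme.Modules.pullback f').obj G)).map φ).app W' (γ f g g' f' w G F eV e W' e₁ e₂ z) := by
  induction z using TensorProduct.induction_on with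
  | zero => simp only [map_zero]
  | add x y hx hy => simp only [map_add, hx, hy]
  | tmul c m =>
    rw [LinearMap.lTensor_tmul, γ_tmul, γ_tmul]
    refine Eq.trans ?_ (Groth.L17.ClosedPush.tensorMap_unit (𝟙 ((Scheme.Modules.pullback f').obj G))
      ((Scheme.Modules.pullback g').map φ) W' _ _).symm
    refine congrArg (Groth.L18.GenLoc.tens ((Scheme.Modules.pullback f').obj G)
      ((Scheme.Modules.pullback g').obj F') W' (rs _ e₂ (pull f' G V' c))) ?_
    rw [app_rs]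
    exact congrArg _ (CxTools.pull_app g' φ W _).symm

variable {M : X.Modules} (I : InjectiveResolution M) (J : InjectiveResolution ((E g' ((Scheme.Modules.pullback f').obj G)).obj M))
  (η : ((E g' ((Scheme.Modules.pullback f').obj G)).mapHomologicalComplex _).obj I.cocomplex ⟶ J.cocomplex)
  (hη : (E g' ((Scheme.Modules.pullback f').obj G)).map (I.ι.f 0) ≫ η.f 0 = J.ι.f 0)

/-- The base changed differential. -/
abbrev dB {W : X.Opens} (e : W ≤ f ⁻¹ᵁ V) (m n : ℕ) :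
    SecA g G eV ⊗[Γ(S, V)] SecA f (I.cocomplex.X m) e →ₗ[Γ(S, V)]
      SecA g G eV ⊗[Γ(S, V)] SecA f (I.cocomplex.X n) e :=
  (secMap f (I.cocomplex.d m n) e).lTensor (SecA g G eV)

/-- The comparison. -/
def T {W : X.Opens} (e : W ≤ f ⁻¹ᵁ V) (n : ℕ) :
    SecA g G eV ⊗[Γ(S, V)] SecA f (I.cocomplex.X n) e →+ Γ(J.cocomplex.X n, pr f' g' V' W) :=
  ((η.f n).app (pr f' g' V' W)).hom.comp
    (γ f g g' f' w G (I.cocomplex.X n) eV e (pr f' g' V' W) inf_le_left inf_le_right)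

theorem T_apply {W : X.Opens} (e : W ≤ f ⁻¹ᵁ V) (n : ℕ) (z) :
    T f g g' f' w G eV I J η e n z = (η.f n).app (pr f' g' V' W)
      (γ f g g' f' w G (I.cocomplex.X n) eV e (pr f' g' V' W) inf_le_left inf_le_right z) := rfl

theorem T_d {W : X.Opens} (e : W ≤ f ⁻¹ᵁ V) (m n : ℕ) (z) :
    T f g g' f' w G eV I J η e n (dB f g G eV I e m n z) =
      (J.cocomplex.d m n).app (pr f' g' V' W) (T f g g' f' w G eV I J η e m z) := by
  rw [T_apply, T_apply, γ_map]
  exact congr($(congrArg (fun k => Scheme.Modules.Hom.app k (pr f' g' V' W)) (η.comm m n).symm) _)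

theorem T_res {W W₁ : X.Opens} (e : W ≤ f ⁻¹ᵁ V) (h : W₁ ≤ W) (n : ℕ) (z) :
    T f g g' f' w G eV I J η (h.trans e) n ((resA f _ e h).lTensor _ z) =
      rs _ (pr_mono g' f' h) (T f g g' f' w G eV I J η e n z) := by
  rw [T_apply, T_apply]
  refine Eq.trans (congrArg _ (γ_res f g g' f' w G (I.cocomplex.X n) eV e h
    (e₁ := inf_le_left) (e₂ := inf_le_right) (pr_mono g' f' h) inf_le_left z)) ?_
  exact app_rs (η.f n) _ _

theorem dB_res {W W₁ : X.Opens} (e : W ≤ f ⁻¹ᵁ V) (h : W₁ ≤ W) (m n : ℕ)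
    (z : SecA g G eV ⊗[Γ(S, V)] SecA f (I.cocomplex.X m) e) :
    (resA f _ e h).lTensor (SecA g G eV) (dB f g G eV I e m n z) = dB f g G eV I (h.trans e) m n ((resA f _ e h).lTensor _ z) := by
  induction z using TensorProduct.induction_on with
  | zero => simp only [map_zero]
  | add x y hx hy => simp only [map_add, hx, hy]
  | tmul c m' =>
    simp only [LinearMap.lTensor_tmul]
    exact congrArg (c ⊗ₜ ·) (app_rs (I.cocomplex.d m n) h m').symm

theorem dB_dB {W : X.Opens} (e : W ≤ f ⁻¹ᵁ V) (l m n : ℕ) (z : SecA g G eV ⊗[Γ(S, V)] SecA f (I.cocomplex.X l) e) :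
    dB f g G eV I e m n (dB f g G eV I e l m z) = 0 := by
  rw [dB, dB, ← LinearMap.comp_apply, ← LinearMap.lTensor_comp, ← secMap_comp, I.cocomplex.d_comp_d,
    show secMap f (0 : I.cocomplex.X l ⟶ I.cocomplex.X n) e = 0 from LinearMap.ext fun _ => rfl,
    LinearMap.lTensor_zero]
  rfl

theorem dJ_dJ (U : X'.Opens) (l m n : ℕ) (y : Γ(J.cocomplex.X l, U)) :
    (J.cocomplex.d m n).app U ((J.cocomplex.d l m).app U y) = 0 :=
  (congr($(congrArg (fun k => Scheme.Modules.Hom.app k U) (J.cocomplex.d_comp_d l m n)) y))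

/-- The comparison is a quasi-isomorphism. -/
def Qis (W : X.Opens) : Prop :=
  ∀ (e : W ≤ f ⁻¹ᵁ V) (n : ℕ),
    (∀ z, dB f g G eV I e n (n + 1) z = 0 →
      (∃ y, T f g g' f' w G eV I J η e n z =
        (J.cocomplex.d ((ComplexShape.up ℕ).prev n) n).app (pr f' g' V' W) y) →
      ∃ x, z = dB f g G eV I e ((ComplexShape.up ℕ).prev n) n x) ∧
    (∀ t, (J.cocomplex.d n (n + 1)).app (pr f' g' V' W) t = 0 →
      ∃ z y, dB f g G eV I e n (n + 1) z = 0 ∧
        t = T f g g' f' w G eV I J η e n z +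
          (J.cocomplex.d ((ComplexShape.up ℕ).prev n) n).app (pr f' g' V' W) y)

include hη in
theorem qis_affine [Coh.IsQCoh M] [Coh.IsQCoh G] (hc : IsPullback g' f' f g) (hV : IsAffineOpen V) (hV' : IsAffineOpen V')
    (hflat : Module.Flat Γ(S, V) (SecA g G eV)) {W : X.Opens} (hW : IsAffineOpen W) :
    Qis f g g' f' w G eV I J η W := by
  intro e n
  haveI : Coh.IsQCoh ((E g' ((Scheme.Modules.pullback f').obj G)).obj M) :=
    haveI := Groth.L16.AffineBC.isQCoh_pullback f' G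
    haveI := Groth.L16.AffineBC.isQCoh_pullback g' M
    Groth.L00.Tensor.isQCoh_tensorMod _ _
  have hpb := Scheme.Hom.isPullback_resLE hc (UT := V') eV e (UY := pr f' g' V' W) rfl
  haveI : IsAffine V.toScheme := hV
  haveI : IsAffine W.toScheme := hW
  haveI : IsAffine V'.toScheme := hV'
  have hU : IsAffineOpen (pr f' g' V' W) := IsAffine.of_isPullback hpb
  cases n with
  | succ n =>
    have hp : ∀ p, p = n → (∀ z, dB f g G eV I e (n + 1) (n + 1 + 1) z = 0 → ∃ x, z = dB f g G eV I e p (n + 1) x) ∧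
        (∀ t, (J.cocomplex.d (n + 1) (n + 1 + 1)).app (pr f' g' V' W) t = 0 →
          ∃ y, t = (J.cocomplex.d p (n + 1)).app (pr f' g' V' W) y) := by
      rintro p rfl
      refine ⟨fun z hz => ?_, fun t ht => ?_⟩
      · have hex : Function.Exact (secMap f (I.cocomplex.d p (p + 1)) e)
            (secMap f (I.cocomplex.d (p + 1) (p + 1 + 1)) e) := fun s =>
          ⟨fun hs => exists_d_eq I hW p s hs, by
            rintro ⟨y, rfl⟩
            exact congr($(congrArg (fun k => Scheme.Modules.Hom.app k W)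
              (I.cocomplex.d_comp_d p (p + 1) (p + 1 + 1))) y)⟩
        obtain ⟨x, hx⟩ := (Module.Flat.lTensor_exact (SecA g G eV) hex z).1 hz
        exact ⟨x, hx.symm⟩
      · obtain ⟨y, hy⟩ := exists_d_eq J hU p t ht
        exact ⟨y, hy.symm⟩
    obtain ⟨h1, h2⟩ := hp _ (CochainComplex.prev_nat_succ n)
    refine ⟨fun z hz _ => h1 z hz, fun t ht => ?_⟩
    obtain ⟨y, hy⟩ := h2 t ht
    exact ⟨0, y, map_zero _, by rw [map_zero, zero_add]; exact hy⟩
  | zero =>
    have hg := bijective_γ f g g' f' w G M eV hc hV hV' hW e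
    have hd : ∀ p y, (J.cocomplex.d p 0).app (pr f' g' V' W) y = 0 := fun p y => by
      rw [J.cocomplex.shape p 0 (by simp)]; rfl
    have hT : ∀ m, T f g g' f' w G eV I J η e 0 ((secMap f (I.ι.f 0) e).lTensor _ m) =
        (J.ι.f 0).app (pr f' g' V' W) (γ f g g' f' w G M eV e (pr f' g' V' W) inf_le_left inf_le_right m) :=
      fun m => by
        refine (congrArg ((η.f 0).app (pr f' g' V' W)) (γ_map f g g' f' w G eV (I.ι.f 0) e
          (pr f' g' V' W) inf_le_left inf_le_right m)).trans ?_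
        exact congr($(congrArg (fun k => Scheme.Modules.Hom.app k (pr f' g' V' W)) hη) _)
    refine ⟨fun z hz ⟨y, hy⟩ => ?_, fun t ht => ?_⟩
    · have hex : Function.Exact (secMap f (I.ι.f 0) e) (secMap f (I.cocomplex.d 0 1) e) := fun s =>
        ⟨fun hs => exists_lift_of_exact _ _ I.ι_f_zero_comp_complex_d I.exact₀ W s hs, by
          rintro ⟨y, rfl⟩
          exact congr($(congrArg (fun k => Scheme.Modules.Hom.app k W) I.ι_f_zero_comp_complex_d) y)⟩
      obtain ⟨m, rfl⟩ := (Module.Flat.lTensor_exact (SecA g G eV) hex z).1 hz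
      rw [hT, hd] at hy
      have : m = 0 := hg.1 ((CxTools.injective_app (J.ι.f 0) _ (hy.trans (map_zero _).symm)).trans (map_zero _).symm)
      exact ⟨0, by rw [this, map_zero, map_zero]⟩
    · obtain ⟨m', hm'⟩ := exists_lift_of_exact _ _ J.ι_f_zero_comp_complex_d J.exact₀ (pr f' g' V' W) t ht
      obtain ⟨m, rfl⟩ := hg.2 m'
      refine ⟨(secMap f (I.ι.f 0) e).lTensor _ m, 0, ?_, by rw [hT, hd, add_zero]; exact hm'.symm⟩
      rw [dB, ← LinearMap.comp_apply, ← LinearMap.lTensor_comp, ← secMap_comp, I.ι_f_zero_comp_complex_d,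
        show secMap f (0 : M ⟶ I.cocomplex.X 1) e = 0 from LinearMap.ext fun _ => rfl, LinearMap.lTensor_zero]
      rfl

theorem eq_of_res [Module.Flat Γ(S, V) (SecA g G eV)] (F : X.Modules) {U₁ U₂ : X.Opens} (e : U₁ ⊔ U₂ ≤ f ⁻¹ᵁ V)
    (a b : SecA g G eV ⊗[Γ(S, V)] SecA f F e)
    (h1 : (resA f F e le_sup_left).lTensor (SecA g G eV) a = (resA f F e le_sup_left).lTensor (SecA g G eV) b)
    (h2 : (resA f F e le_sup_right).lTensor (SecA g G eV) a = (resA f F e le_sup_right).lTensor (SecA g G eV) b) :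
    a = b := by
  let MF : TopCat.Sheaf Ab.{u} X.toTopCat := ⟨F.presheaf, F.isSheaf⟩
  let r1 := resA f F e (le_sup_left : U₁ ≤ U₁ ⊔ U₂)
  let r2 := resA f F e (le_sup_right : U₂ ≤ U₁ ⊔ U₂)
  have hinj : Function.Injective (r1.prod r2) := fun a b hab =>
    MF.eq_of_locally_eq₂ (homOfLE le_sup_left) (homOfLE le_sup_right) le_rfl a b (Prod.ext_iff.1 hab).1
      (Prod.ext_iff.1 hab).2
  have key : ∀ z, TensorProduct.prodRight Γ(S, V) Γ(S, V) (SecA g G eV) _ _ ((r1.prod r2).lTensor (SecA g G eV) z) =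
      (r1.lTensor (SecA g G eV) z, r2.lTensor (SecA g G eV) z) := fun z => by
    induction z using TensorProduct.induction_on with
    | zero => simp only [map_zero]; rfl
    | add x y hx hy => simp only [map_add, hx, hy, Prod.mk_add_mk]
    | tmul b x => rfl
  apply Module.Flat.lTensor_preserves_injective_linearMap _ hinj
  apply (TensorProduct.prodRight Γ(S, V) Γ(S, V) (SecA g G eV) _ _).injective
  rw [key, key]
  exact Prod.ext h1 h2

theorem exists_glue [Module.Flat Γ(S, V) (SecA g G eV)] (F : X.Modules) {U₁ U₂ : X.Opens} (e : U₁ ⊔ U₂ ≤ f ⁻¹ᵁ V)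
    (a₁ : SecA g G eV ⊗[Γ(S, V)] SecA f F (le_sup_left.trans e))
    (a₂ : SecA g G eV ⊗[Γ(S, V)] SecA f F (le_sup_right.trans e))
    (h : (resA f F (le_sup_left.trans e) (inf_le_left : U₁ ⊓ U₂ ≤ U₁)).lTensor (SecA g G eV) a₁ =
      (resA f F (le_sup_right.trans e) (inf_le_right : U₁ ⊓ U₂ ≤ U₂)).lTensor (SecA g G eV) a₂) :
    ∃ a, (resA f F e le_sup_left).lTensor (SecA g G eV) a = a₁ ∧
      (resA f F e le_sup_right).lTensor (SecA g G eV) a = a₂ := by
  let MF : TopCat.Sheaf Ab.{u} X.toTopCat := ⟨F.presheaf, F.isSheaf⟩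
  let r1 := resA f F e (le_sup_left : U₁ ≤ U₁ ⊔ U₂)
  let r2 := resA f F e (le_sup_right : U₂ ≤ U₁ ⊔ U₂)
  let s1 := resA f F (le_sup_left.trans e) (inf_le_left : U₁ ⊓ U₂ ≤ U₁)
  let s2 := resA f F (le_sup_right.trans e) (inf_le_right : U₁ ⊓ U₂ ≤ U₂)
  have hex : Function.Exact (r1.prod r2) (s1.coprod (-s2)) := by
    intro p
    refine ⟨fun hp => ?_, ?_⟩
    · have hp' : rs F (inf_le_left : U₁ ⊓ U₂ ≤ U₁) p.1 = rs F (inf_le_right : U₁ ⊓ U₂ ≤ U₂) p.2 := by
        have := hp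
        rw [LinearMap.coprod_apply, LinearMap.neg_apply, add_neg_eq_zero] at this
        exact this
      obtain ⟨a, ha, -⟩ := MF.existsUnique_gluing'
        (fun i : ULift.{u} Bool => if i.down then U₁ else U₂) (U₁ ⊔ U₂)
        (fun i => homOfLE (by rcases i with ⟨_ | _⟩ <;> simp))
        (sup_le (le_iSup_of_le (ι := ULift.{u} Bool) ⟨true⟩ le_rfl) (le_iSup_of_le (ι := ULift.{u} Bool) ⟨false⟩ le_rfl))
        (fun i => match i with | ⟨true⟩ => p.1 | ⟨false⟩ => p.2)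
        (fun i j => by
          rcases i with ⟨_ | _⟩ <;> rcases j with ⟨_ | _⟩
          · rfl
          · show rs F inf_le_left p.2 = rs F inf_le_right p.1
            have h1 := congrArg (rs F (show U₂ ⊓ U₁ ≤ U₁ ⊓ U₂ from (inf_comm _ _).le)) hp'
            rw [rs_rs, rs_rs] at h1
            exact h1.symm
          · exact hp'
          · rfl)
      exact ⟨a, Prod.ext (ha ⟨true⟩) (ha ⟨false⟩)⟩
    · rintro ⟨a, rfl⟩
      rw [LinearMap.coprod_apply, LinearMap.neg_apply, add_neg_eq_zero]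
      show rs F _ (rs F _ a) = rs F _ (rs F _ a)
      rw [rs_rs, rs_rs]
  have hco : ∀ q, (s1.coprod (-s2)).lTensor (SecA g G eV)
      ((TensorProduct.prodRight Γ(S, V) Γ(S, V) (SecA g G eV) _ _).symm q) =
      s1.lTensor (SecA g G eV) q.1 - s2.lTensor (SecA g G eV) q.2 := fun q => by
    obtain ⟨q, rfl⟩ := (TensorProduct.prodRight Γ(S, V) Γ(S, V) (SecA g G eV) _ _).surjective q
    rw [LinearEquiv.symm_apply_apply]
    induction q using TensorProduct.induction_on with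
    | zero => simp
    | add x y hx hy => simp only [map_add, hx, hy, Prod.fst_add, Prod.snd_add]; abel
    | tmul b x => simp [sub_eq_add_neg, TensorProduct.tmul_add, TensorProduct.tmul_neg]
  obtain ⟨z, hz⟩ := (Module.Flat.lTensor_exact (SecA g G eV) hex
    ((TensorProduct.prodRight Γ(S, V) Γ(S, V) (SecA g G eV) _ _).symm (a₁, a₂))).1
      (by rw [hco]; exact sub_eq_zero.2 h)
  have key : ∀ z, TensorProduct.prodRight Γ(S, V) Γ(S, V) (SecA g G eV) _ _ ((r1.prod r2).lTensor (SecA g G eV) z) =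
      (r1.lTensor (SecA g G eV) z, r2.lTensor (SecA g G eV) z) := fun z => by
    induction z using TensorProduct.induction_on with
    | zero => simp only [map_zero]; rfl
    | add x y hx hy => simp only [map_add, hx, hy, Prod.mk_add_mk]
    | tmul b x => rfl
  exact ⟨z, Prod.ext_iff.1 ((key z).symm.trans (by rw [hz, LinearEquiv.apply_symm_apply]))⟩

theorem exists_ext {F : X.Modules} [Injective F] {U U₁ : X.Opens} (e : U ≤ f ⁻¹ᵁ V) (h : U₁ ≤ U)
    (z : SecA g G eV ⊗[Γ(S, V)] SecA f F (h.trans e)) : ∃ x, (resA f F e h).lTensor (SecA g G eV) x = z :=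
  LinearMap.lTensor_surjective (SecA g G eV) (PushMV.surjective_res_of_injective F h) z

theorem qis_sup [Module.Flat Γ(S, V) (SecA g G eV)] {U₁ U₂ : X.Opens} (h1 : Qis f g g' f' w G eV I J η U₁)
    (h2 : Qis f g g' f' w G eV I J η U₂) (h12 : Qis f g g' f' w G eV I J η (U₁ ⊓ U₂)) :
    Qis f g g' f' w G eV I J η (U₁ ⊔ U₂) := by
  intro e n
  haveI := I.injective
  haveI := J.injective
  set p := (ComplexShape.up ℕ).prev n with hp
  set q := (ComplexShape.up ℕ).prev p with hq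
  have hpn : (n = 0 ∧ p = 0) ∨ (p + 1 = n) := by
    rcases n with _ | m
    · exact Or.inl ⟨rfl, hp.trans (by simp)⟩
    · exact Or.inr (by rw [hp, CochainComplex.prev_nat_succ])
  have e1 : U₁ ≤ f ⁻¹ᵁ V := le_sup_left.trans e
  have e2 : U₂ ≤ f ⁻¹ᵁ V := le_sup_right.trans e
  have e12 : U₁ ⊓ U₂ ≤ f ⁻¹ᵁ V := inf_le_left.trans e1
  let MJ : ∀ k, TopCat.Sheaf Ab.{u} X'.toTopCat := fun k => ⟨(J.cocomplex.X k).presheaf, (J.cocomplex.X k).isSheaf⟩
  have i1 := pr_mono g' f' (V' := V') (le_sup_left : U₁ ≤ U₁ ⊔ U₂)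
  have i2 := pr_mono g' f' (V' := V') (le_sup_right : U₂ ≤ U₁ ⊔ U₂)
  have j1 := pr_mono g' f' (V' := V') (inf_le_left : U₁ ⊓ U₂ ≤ U₁)
  have j2 := pr_mono g' f' (V' := V') (inf_le_right : U₁ ⊓ U₂ ≤ U₂)
  have hcov : pr f' g' V' (U₁ ⊔ U₂) ≤ pr f' g' V' U₁ ⊔ pr f' g' V' U₂ := by
    rintro x ⟨hx | hx, hx'⟩
    · exact Or.inl ⟨hx, hx'⟩
    · exact Or.inr ⟨hx, hx'⟩
  have hdl : ∀ (U U' : X'.Opens) (h : U' ≤ U) (a b : ℕ) (y : Γ(J.cocomplex.X a, U)),
      rs _ h ((J.cocomplex.d a b).app U y) = (J.cocomplex.d a b).app U' (rs _ h y) :=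
    fun U U' h a b y => (app_rs (J.cocomplex.d a b) h y).symm
  -- two boundaries with the same restriction
  have hjoin : ∀ (y₁ : Γ(J.cocomplex.X p, pr f' g' V' U₁)) (y₂ : Γ(J.cocomplex.X p, pr f' g' V' U₂)),
      (J.cocomplex.d p n).app _ (rs _ j1 y₁ - rs _ j2 y₂) = 0 → n ≠ 0 →
      ∃ c v, dB f g G eV I e12 p n c = 0 ∧ rs _ j1 y₁ - rs _ j2 y₂ =
        T f g g' f' w G eV I J η e12 p c + (J.cocomplex.d q p).app _ v := by
    intro y₁ y₂ hy hn
    rcases hpn with ⟨hn', -⟩ | hpn'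
    · exact absurd hn' hn
    obtain ⟨c, v, hc, hv⟩ := (h12 e12 p).2 (rs _ j1 y₁ - rs _ j2 y₂) (by rw [hpn']; exact hy)
    exact ⟨c, v, by rw [hpn'] at hc; exact hc, hv⟩
  refine ⟨fun z hz ⟨y, hy⟩ => ?_, fun t ht => ?_⟩
  · obtain ⟨x₁, hx₁⟩ := (h1 e1 n).1 _ (by rw [← dB_res f g G eV I e le_sup_left, hz, map_zero])
      ⟨rs _ i1 y, by rw [T_res f g g' f' w G eV I J η e le_sup_left, hy, hdl]⟩
    obtain ⟨x₂, hx₂⟩ := (h2 e2 n).1 _ (by rw [← dB_res f g G eV I e le_sup_right, hz, map_zero])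
      ⟨rs _ i2 y, by rw [T_res f g g' f' w G eV I J η e le_sup_right, hy, hdl]⟩
    rcases hpn with ⟨rfl, -⟩ | hpn'
    · have h0 : ∀ (U : X.Opens) (eU : U ≤ f ⁻¹ᵁ V) (x : SecA g G eV ⊗[Γ(S, V)] SecA f (I.cocomplex.X p) eU),
          dB f g G eV I eU p 0 x = 0 := fun U eU x => by
        have : secMap f (I.cocomplex.d p 0) eU = 0 := by
          rw [I.cocomplex.shape p 0 (by simp)]; exact LinearMap.ext fun _ => rfl
        rw [dB, this, LinearMap.lTensor_zero]; rfl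
      refine ⟨0, (eq_of_res f g G eV _ e z _ ?_ ?_)⟩
      · rw [hx₁, map_zero, map_zero, h0]
      · rw [hx₂, map_zero, map_zero, h0]
    -- make the comparisons of the primitives agree with `y`
    have hc1 : (J.cocomplex.d p (p + 1)).app _ (T f g g' f' w G eV I J η e1 p x₁ - rs _ i1 y) = 0 := by
      rw [hpn', map_sub, ← T_d, ← hx₁, ← hdl, T_res f g g' f' w G eV I J η e le_sup_left, hy, sub_self]
    have hc2 : (J.cocomplex.d p (p + 1)).app _ (T f g g' f' w G eV I J η e2 p x₂ - rs _ i2 y) = 0 := by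
      rw [hpn', map_sub, ← T_d, ← hx₂, ← hdl, T_res f g g' f' w G eV I J η e le_sup_right, hy, sub_self]
    obtain ⟨a₁, b₁, ha₁, hb₁⟩ := (h1 e1 p).2 _ hc1
    obtain ⟨a₂, b₂, ha₂, hb₂⟩ := (h2 e2 p).2 _ hc2
    rw [hpn'] at ha₁ ha₂
    let r1 := (resA f (I.cocomplex.X p) e1 (inf_le_left : U₁ ⊓ U₂ ≤ U₁)).lTensor (SecA g G eV)
    let r2 := (resA f (I.cocomplex.X p) e2 (inf_le_right : U₁ ⊓ U₂ ≤ U₂)).lTensor (SecA g G eV)
    have hw1 : dB f g G eV I e12 p n (r1 (x₁ - a₁) - r2 (x₂ - a₂)) = 0 := by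
      rw [map_sub (dB f g G eV I e12 p n), ← dB_res f g G eV I e1 inf_le_left, ← dB_res f g G eV I e2 inf_le_right,
        map_sub (dB f g G eV I e1 p n), map_sub (dB f g G eV I e2 p n),
        ha₁, ha₂, sub_zero, sub_zero, ← hx₁, ← hx₂, ← LinearMap.comp_apply, ← LinearMap.comp_apply,
        ← LinearMap.lTensor_comp, ← LinearMap.lTensor_comp]
      refine sub_eq_zero.2 (congrArg (fun φ => LinearMap.lTensor (SecA g G eV) φ z) (LinearMap.ext fun s => ?_))
      show rs _ _ (rs _ _ s) = rs _ _ (rs _ _ s)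
      rw [rs_rs, rs_rs]
    have hw2 : T f g g' f' w G eV I J η e12 p (r1 (x₁ - a₁) - r2 (x₂ - a₂)) =
        (J.cocomplex.d q p).app _ (rs _ j1 b₁ - rs _ j2 b₂) := by
      have k1 : T f g g' f' w G eV I J η e1 p (x₁ - a₁) = rs _ i1 y + (J.cocomplex.d q p).app _ b₁ := by
        rw [map_sub]; rw [sub_eq_iff_eq_add] at hb₁ ⊢; rw [hb₁]; abel
      have k2 : T f g g' f' w G eV I J η e2 p (x₂ - a₂) = rs _ i2 y + (J.cocomplex.d q p).app _ b₂ := by
        rw [map_sub]; rw [sub_eq_iff_eq_add] at hb₂ ⊢; rw [hb₂]; abel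
      rw [map_sub (T f g g' f' w G eV I J η e12 p), T_res f g g' f' w G eV I J η e1 inf_le_left,
        T_res f g g' f' w G eV I J η e2 inf_le_right, k1, k2]
      rw [rs_add, rs_add, map_sub, rs_rs, rs_rs, hdl, hdl]
      abel
    obtain ⟨c, hcc⟩ := (h12 e12 p).1 _ (by rw [hpn']; exact hw1) ⟨_, hw2⟩
    obtain ⟨c₁, hc₁⟩ := exists_ext f g G eV e1 (inf_le_left : U₁ ⊓ U₂ ≤ U₁) c
    have hagree : r1 (x₁ - a₁ - dB f g G eV I e1 q p c₁) = r2 (x₂ - a₂) := by
      rw [map_sub r1, dB_res f g G eV I e1 inf_le_left, hc₁, ← hcc]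
      abel
    obtain ⟨x, hx, hx'⟩ := exists_glue f g G eV _ e _ _ hagree
    refine ⟨x, (eq_of_res f g G eV _ e z _ ?_ ?_)⟩
    · rw [dB_res f g G eV I e le_sup_left, hx, map_sub, map_sub, ha₁, sub_zero, dB_dB, sub_zero, hx₁]
    · rw [dB_res f g G eV I e le_sup_right, hx', map_sub, ha₂, sub_zero, hx₂]
  · obtain ⟨a₁, b₁, ha₁, hb₁⟩ := (h1 e1 n).2 (rs _ i1 t) (by rw [← hdl, ht, rs_zero])
    obtain ⟨a₂, b₂, ha₂, hb₂⟩ := (h2 e2 n).2 (rs _ i2 t) (by rw [← hdl, ht, rs_zero])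
    let r1 := (resA f (I.cocomplex.X n) e1 (inf_le_left : U₁ ⊓ U₂ ≤ U₁)).lTensor (SecA g G eV)
    let r2 := (resA f (I.cocomplex.X n) e2 (inf_le_right : U₁ ⊓ U₂ ≤ U₂)).lTensor (SecA g G eV)
    have hw2 : T f g g' f' w G eV I J η e12 n (r1 a₁ - r2 a₂) = (J.cocomplex.d p n).app _ (rs _ j2 b₂ - rs _ j1 b₁) := by
      have k1 : T f g g' f' w G eV I J η e1 n a₁ = rs _ i1 t - (J.cocomplex.d p n).app _ b₁ := eq_sub_of_add_eq hb₁.symm
      have k2 : T f g g' f' w G eV I J η e2 n a₂ = rs _ i2 t - (J.cocomplex.d p n).app _ b₂ := eq_sub_of_add_eq hb₂.symm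
      rw [map_sub (T f g g' f' w G eV I J η e12 n), T_res f g g' f' w G eV I J η e1 inf_le_left,
        T_res f g g' f' w G eV I J η e2 inf_le_right, k1, k2]
      simp only [map_sub, rs_sub, rs_rs, hdl]
      abel
    obtain ⟨c, hcc⟩ := (h12 e12 n).1 _
      (by rw [map_sub, ← dB_res f g G eV I e1 inf_le_left, ← dB_res f g G eV I e2 inf_le_right, ha₁, ha₂, map_zero, map_zero,
        sub_zero]) ⟨_, hw2⟩
    obtain ⟨c₁, hc₁⟩ := exists_ext f g G eV e1 (inf_le_left : U₁ ⊓ U₂ ≤ U₁) c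
    have hagree : r1 (a₁ - dB f g G eV I e1 p n c₁) = r2 a₂ := by
      rw [map_sub r1, dB_res f g G eV I e1 inf_le_left, hc₁, ← hcc]
      abel
    let b₁' := b₁ + T f g g' f' w G eV I J η e1 p c₁
    have hb₁' : rs _ i1 t = T f g g' f' w G eV I J η e1 n (a₁ - dB f g G eV I e1 p n c₁) + (J.cocomplex.d p n).app _ b₁' := by
      rw [map_sub, T_d, map_add, hb₁]; abel
    rcases hpn with ⟨hn, hp0⟩ | hpn'
    · obtain ⟨a, ha, ha'⟩ := exists_glue f g G eV _ e _ _ hagree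
      refine ⟨a, 0, eq_of_res f g G eV _ e _ _ ?_ ?_, ?_⟩
      · rw [dB_res f g G eV I e le_sup_left, ha, map_sub, ha₁, dB_dB, sub_zero, map_zero]
      · rw [dB_res f g G eV I e le_sup_right, ha', ha₂, map_zero]
      have hd0 : ∀ (U : X'.Opens) (y : Γ(J.cocomplex.X p, U)), (J.cocomplex.d p n).app U y = 0 := fun U y => by
        rw [J.cocomplex.shape p n (by rw [hn, hp0]; simp)]; rfl
      rw [map_zero, add_zero]
      refine (MJ n).eq_of_locally_eq₂ (homOfLE i1) (homOfLE i2) hcov t _ ?_ ?_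
      · refine (hb₁'.trans ?_).trans (T_res f g g' f' w G eV I J η e le_sup_left n a)
        rw [hd0, add_zero, ha]
      · refine (hb₂.trans ?_).trans (T_res f g g' f' w G eV I J η e le_sup_right n a)
        rw [hd0, add_zero, ha']
    have hyy : (J.cocomplex.d p n).app _ (rs _ j1 b₁' - rs _ j2 b₂) = 0 := by
      have k1 : (J.cocomplex.d p n).app _ b₁' = rs _ i1 t - T f g g' f' w G eV I J η e1 n (a₁ - dB f g G eV I e1 p n c₁) :=
        eq_sub_of_add_eq' hb₁'.symm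
      have k2 : (J.cocomplex.d p n).app _ b₂ = rs _ i2 t - T f g g' f' w G eV I J η e2 n a₂ := eq_sub_of_add_eq' hb₂.symm
      rw [map_sub, ← hdl, ← hdl, k1, k2, rs_sub, rs_sub, rs_rs, rs_rs,
        ← T_res f g g' f' w G eV I J η e1 inf_le_left, ← T_res f g g' f' w G eV I J η e2 inf_le_right]
      refine sub_eq_zero.2 ?_
      exact congrArg₂ (· - ·) rfl (congrArg _ hagree)
    obtain ⟨c', v, hc', hv⟩ := hjoin b₁' b₂ hyy (by omega)
    obtain ⟨c'₁, hc'₁⟩ := exists_ext f g G eV e1 (inf_le_left : U₁ ⊓ U₂ ≤ U₁) c'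
    obtain ⟨v₁, hv₁⟩ := PushMV.surjective_res_of_injective (J.cocomplex.X q) j1 v
    let bb₁ := b₁' - T f g g' f' w G eV I J η e1 p c'₁ - (J.cocomplex.d q p).app _ v₁
    let aa₁ := a₁ - dB f g G eV I e1 p n c₁ + dB f g G eV I e1 p n c'₁
    have hbb : rs _ i1 t = T f g g' f' w G eV I J η e1 n aa₁ + (J.cocomplex.d p n).app _ bb₁ := by
      simp only [bb₁, aa₁, map_add, map_sub, T_d, dJ_dJ]
      rw [hb₁', map_sub, T_d]; abel
    have hbg : rs _ j1 bb₁ = rs _ j2 b₂ := by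
      simp only [bb₁, rs_sub]
      rw [← T_res f g g' f' w G eV I J η e1 inf_le_left, hc'₁, hdl, show rs _ j1 v₁ = v from hv₁]
      rw [sub_eq_iff_eq_add] at hv
      rw [hv]; abel
    have hag : r1 aa₁ = r2 a₂ := by
      simp only [aa₁, map_add]
      rw [hagree, dB_res f g G eV I e1 inf_le_left, hc'₁, hc', add_zero]
    obtain ⟨a, ha, ha'⟩ := exists_glue f g G eV _ e _ _ hag
    obtain ⟨b, hb, hb'⟩ : ∃ b, rs _ i1 b = bb₁ ∧ rs _ i2 b = b₂ := by
      let U' : ULift.{u} Bool → X'.Opens := fun i => if i.down then pr f' g' V' U₁ else pr f' g' V' U₂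
      obtain ⟨b, hb, -⟩ := (MJ p).existsUnique_gluing' U' (pr f' g' V' (U₁ ⊔ U₂))
        (fun i => homOfLE (by rcases i with ⟨_ | _⟩ <;> [exact i2; exact i1]))
        (hcov.trans (sup_le (le_iSup_of_le (ι := ULift.{u} Bool) ⟨true⟩ le_rfl)
          (le_iSup_of_le (ι := ULift.{u} Bool) ⟨false⟩ le_rfl)))
        (fun i => match i with | ⟨true⟩ => bb₁ | ⟨false⟩ => b₂)
        (fun i j => by
          have k : pr f' g' V' U₁ ⊓ pr f' g' V' U₂ ≤ pr f' g' V' (U₁ ⊓ U₂) :=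
            fun x hx => ⟨⟨hx.1.1, hx.2.1⟩, hx.1.2⟩
          have h1 := congrArg (rs _ k) hbg
          rw [rs_rs, rs_rs] at h1
          rcases i with ⟨_ | _⟩ <;> rcases j with ⟨_ | _⟩
          · rfl
          · show rs _ inf_le_left b₂ = rs _ inf_le_right bb₁
            have h2 := congrArg (rs _ (inf_comm (pr f' g' V' U₂) (pr f' g' V' U₁)).le) h1
            rw [rs_rs, rs_rs] at h2
            exact h2.symm
          · exact h1
          · rfl)
      exact ⟨b, hb ⟨true⟩, hb ⟨false⟩⟩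
    refine ⟨a, b, eq_of_res f g G eV _ e _ _ ?_ ?_, ?_⟩
    · rw [dB_res f g G eV I e le_sup_left, ha, map_add, map_sub, ha₁, dB_dB, dB_dB, sub_zero, add_zero, map_zero]
    · rw [dB_res f g G eV I e le_sup_right, ha', ha₂, map_zero]
    refine (MJ n).eq_of_locally_eq₂ (homOfLE i1) (homOfLE i2) hcov t _ ?_ ?_
    · refine hbb.trans ?_
      rw [← ha, T_res f g g' f' w G eV I J η e le_sup_left, ← hb, ← hdl]
      exact (map_add _ _ _).symm
    · refine hb₂.trans ?_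
      rw [← ha', T_res f g g' f' w G eV I J η e le_sup_right, ← hb', ← hdl]
      exact (map_add _ _ _).symm

include hη in
/-- The comparison is a quasi-isomorphism over quasi-compact opens above `V`. -/
theorem qis_preimage [Coh.IsQCoh M] [Coh.IsQCoh G] [QuasiCompact f] [QuasiSeparated f] (hc : IsPullback g' f' f g)
    (hV : IsAffineOpen V) (hV' : IsAffineOpen V') [Module.Flat Γ(S, V) (SecA g G eV)] :
    Qis f g g' f' w G eV I J η (f ⁻¹ᵁ V) := by
  haveI : QuasiSeparatedSpace (f ⁻¹ᵁ V : X.Opens).toScheme := by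
    haveI : IsAffine V.toScheme := hV
    exact quasiSeparatedSpace_of_quasiSeparated (f ∣_ V)
  have key : ∀ U : (f ⁻¹ᵁ V : X.Opens).toScheme.Opens, IsCompact (U : Set ↥(f ⁻¹ᵁ V : X.Opens).toScheme) →
      Qis f g g' f' w G eV I J η ((f ⁻¹ᵁ V).ι ''ᵁ U) := fun U hU => by
    refine SchemeTheta.qc_induction (fun U => Qis f g g' f' w G eV I J η ((f ⁻¹ᵁ V).ι ''ᵁ U))
      (fun W hW => qis_affine f g g' f' w G eV I J η hη hc hV hV' inferInstance
        (hW.image_of_isOpenImmersion _)) (fun U₁ U₂ a b c => ?_) hU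
    have e1 : (f ⁻¹ᵁ V).ι ''ᵁ (U₁ ⊔ U₂) = (f ⁻¹ᵁ V).ι ''ᵁ U₁ ⊔ (f ⁻¹ᵁ V).ι ''ᵁ U₂ :=
      Opens.ext (Set.image_union _ _ _)
    have e2 : (f ⁻¹ᵁ V).ι ''ᵁ (U₁ ⊓ U₂) = (f ⁻¹ᵁ V).ι ''ᵁ U₁ ⊓ (f ⁻¹ᵁ V).ι ''ᵁ U₂ :=
      Opens.ext (Set.image_inter (f ⁻¹ᵁ V).ι.isOpenEmbedding.injective)
    rw [e1]
    refine qis_sup f g g' f' w G eV I J η a b ?_
    rw [← e2]
    exact c
  have := key ⊤ (by
    haveI : CompactSpace (f ⁻¹ᵁ V : X.Opens).toScheme :=
      isCompact_iff_compactSpace.1 (f.isCompact_preimage hV.isCompact)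
    exact isCompact_univ)
  rwa [Scheme.Hom.image_top_eq_opensRange, Scheme.Opens.opensRange_ι] at this

end Groth.L17.FlatPair
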