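import Groth.Agent.L16.AffineBC.Pullback
import Groth.Agent.L18.GenLocus
import Groth.Agent.L00.TensorQCoh
import Groth.Agent.L00.StalkFunctor
import Mathlib.RingTheory.IsTensorProduct

/-!
Sections of the tensor product of quasi-coherent modules on affine opens.
-/

set_option autoImplicit false
set_option linter.style.haveILetI false
set_option backward.isDefEq.respectTransparency false

universe u

open CategoryTheory AlgebraicGeometry TopologicalSpace Opposite
open scoped TensorProduct

noncomputable section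

namespace Groth.L17.FlatPair

open Groth.L18.GenLoc (tens tens_smul_left tens_smul_right)
open Groth.L20.ModStalk (stalkModule germₗ isLocalizedModule_germ)

variable {X : Scheme.{u}} (A B : X.Modules) (U : X.Opens)

theorem tens_add_left (a a' : Γ(A, U)) (b : Γ(B, U)) :
    tens A B U (a + a') b = tens A B U a b + tens A B U a' b := Groth.L00.Tensor.ev_add₁ _ _ _ _ _

theorem tens_add_right (a : Γ(A, U)) (b b' : Γ(B, U)) :
    tens A B U a (b + b') = tens A B U a b + tens A B U a b' := Groth.L00.Tensor.ev_add₂ _ _ _ _ _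

/-- The comparison from the tensor product of sections. -/
def secTens : Γ(A, U) ⊗[Γ(X, U)] Γ(B, U) →ₗ[Γ(X, U)] Γ(CohB1.tensorMod A B, U) :=
  TensorProduct.lift (LinearMap.mk₂ Γ(X, U) (fun a b => tens A B U a b) (tens_add_left A B U)
    (fun r a b => tens_smul_left r a b) (tens_add_right A B U) (fun r a b => tens_smul_right r a b))

theorem secTens_tmul (a : Γ(A, U)) (b : Γ(B, U)) : secTens A B U (a ⊗ₜ b) = tens A B U a b := rfl

/-- On affine opens the sections of the tensor product are the tensor product of sections. -/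
theorem bijective_secTens [Coh.IsQCoh A] [Coh.IsQCoh B] {U : X.Opens} (hU : IsAffineOpen U) :
    Function.Bijective (secTens A B U) := by
  classical
  haveI : Coh.IsQCoh (CohB1.tensorMod A B) := Groth.L00.Tensor.isQCoh_tensorMod A B
  set P := CohB1.tensorMod A B
  set ω := secTens A B U
  choose x hx hP using fun (J : Ideal Γ(X, U)) (_ : J.IsMaximal) => Groth.L16.AffineBC.exists_point hU J
  letI (J : Ideal Γ(X, U)) [h : J.IsMaximal] : Module Γ(X, U) (P.presheaf.stalk (x J h)) :=
    stalkModule P (hx J h)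
  have tr : ∀ (I J : Ideal Γ(X, U)) [I.IsPrime] [J.IsPrime], I = J → ∀ (M A' : Type u) [AddCommGroup A']
      [Module Γ(X, U) A'] [AddCommGroup M] [Module Γ(X, U) M] (l : M →ₗ[Γ(X, U)] A'),
      IsLocalizedModule I.primeCompl l → IsLocalizedModule J.primeCompl l := by
    rintro I J _ _ rfl M A _ _ _ _ l h; exact h
  haveI hLP (J : Ideal Γ(X, U)) [h : J.IsMaximal] : IsLocalizedModule J.primeCompl (germₗ P (hx J h)) :=
    tr _ J (hP J h) _ _ _ (isLocalizedModule_germ P hU (hx J h))
  haveI hLL (J : Ideal Γ(X, U)) [h : J.IsMaximal] :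
      IsLocalizedModule J.primeCompl ((germₗ P (hx J h)).comp ω) := by
    refine tr _ J (hP J h) _ _ _ ?_
    set y : X := x J h
    have hy : y ∈ U := hx J h
    letI := X.presheaf.algebra_section_stalk ⟨y, hy⟩
    haveI := hU.isLocalization_stalk ⟨y, hy⟩
    haveI : IsScalarTower Γ(X, U) (X.presheaf.stalk y) (P.presheaf.stalk y) :=
      IsScalarTower.of_algebraMap_smul fun _ _ => rfl
    letI := stalkModule A hy
    haveI : IsScalarTower Γ(X, U) (X.presheaf.stalk y) (A.presheaf.stalk y) :=
      IsScalarTower.of_algebraMap_smul fun _ _ => rfl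
    letI := stalkModule B hy
    haveI : IsScalarTower Γ(X, U) (X.presheaf.stalk y) (B.presheaf.stalk y) :=
      IsScalarTower.of_algebraMap_smul fun _ _ => rfl
    haveI := isLocalizedModule_germ A hU hy
    haveI := isLocalizedModule_germ B hU hy
    have hA : IsBaseChange (X.presheaf.stalk y) (germₗ A hy) :=
      IsLocalizedModule.isBaseChange (hU.primeIdealOf ⟨y, hy⟩).asIdeal.primeCompl _ _
    have hB : IsBaseChange (X.presheaf.stalk y) (germₗ B hy) :=
      IsLocalizedModule.isBaseChange (hU.primeIdealOf ⟨y, hy⟩).asIdeal.primeCompl _ _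
    rw [isLocalizedModule_iff_isBaseChange (S := (hU.primeIdealOf ⟨y, hy⟩).asIdeal.primeCompl)
      (A := X.presheaf.stalk y)]
    let e : X.presheaf.stalk y ⊗[Γ(X, U)] (Γ(A, U) ⊗[Γ(X, U)] Γ(B, U)) ≃ₗ[X.presheaf.stalk y]
        P.presheaf.stalk y :=
      (TensorProduct.AlgebraTensorModule.distribBaseChange Γ(X, U) (X.presheaf.stalk y) Γ(A, U) Γ(B, U)) ≪≫ₗ
        TensorProduct.congr hA.equiv hB.equiv ≪≫ₗ
        (Groth.L00.Stk.τ y A B).toLinearEquiv
    refine IsBaseChange.of_equiv e fun z => ?_
    induction z using TensorProduct.induction_on with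
    | zero => rw [TensorProduct.tmul_zero, map_zero, map_zero]
    | add z z' hz hz' => rw [TensorProduct.tmul_add, map_add, map_add, hz, hz']
    | tmul a b =>
      show Groth.L00.Stk.τfun y A B (TensorProduct.congr hA.equiv hB.equiv
        (TensorProduct.AlgebraTensorModule.distribBaseChange Γ(X, U) (X.presheaf.stalk y) Γ(A, U) Γ(B, U)
          ((1 : X.presheaf.stalk y) ⊗ₜ (a ⊗ₜ b)))) = _
      rw [show TensorProduct.AlgebraTensorModule.distribBaseChange Γ(X, U) (X.presheaf.stalk y) Γ(A, U) Γ(B, U)
          ((1 : X.presheaf.stalk y) ⊗ₜ (a ⊗ₜ b)) = ((1 : X.presheaf.stalk y) ⊗ₜ a) ⊗ₜ ((1 : X.presheaf.stalk y) ⊗ₜ b)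
        from rfl, TensorProduct.congr_tmul, IsBaseChange.equiv_tmul, IsBaseChange.equiv_tmul, one_smul, one_smul]
      exact Groth.L00.Stk.τfun_tmul y A B hy a b
  refine bijective_of_isLocalized_maximal _ (fun J h => (germₗ P (hx J h)).comp ω) _
    (fun J h => germₗ P (hx J h)) ω fun J h => ?_
  have : IsLocalizedModule.map J.primeCompl ((germₗ P (hx J h)).comp ω) (germₗ P (hx J h)) ω = LinearMap.id := by
    apply IsLocalizedModule.linearMap_ext J.primeCompl ((germₗ P (hx J h)).comp ω) (germₗ P (hx J h))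
    refine LinearMap.ext fun l => ?_
    exact IsLocalizedModule.map_apply J.primeCompl ((germₗ P (hx J h)).comp ω) (germₗ P (hx J h)) ω _
  rw [this]
  exact Function.bijective_id

end Groth.L17.FlatPair
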